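import Groth.Agent.Borel50.Lin.Toral
import Groth.Agent.Borel50.Solvable
import Groth.Agent.LieKolchin.Points
import Groth.Agent.AffGrp.Bridge
import Groth.Agent.UnipLib.Chars
import Groth.Agent.GrpDimOne.Basic

/-!
# The rational points of an affine algebraic group as an abstract linear group
-/

set_option autoImplicit false
universe u v w

open CategoryTheory MonoidalCategory CartesianMonoidalCategory MonObj AlgebraicGeometry Limits
open WithConv

noncomputable section

namespace Groth.Agent.Borel50.Lin

section Transfer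

variable {k : Type u} [Field k] {N : ℕ} {Γ : Type v} [Group Γ] [TopologicalSpace Γ] {Γ' : Type w} [Group Γ']
  [TopologicalSpace Γ']

/-- Transport of a representation along a homeomorphic isomorphism. -/
def Rep.comapEquiv (Φ : Rep k Γ N) (e : Γ' ≃* Γ) (hc : Continuous e) (hc' : Continuous e.symm) : Rep k Γ' N :=
  let h : Γ' ≃ₜ Γ := { toEquiv := e.toEquiv, continuous_toFun := hc, continuous_invFun := hc' }
  { ρ := Φ.ρ.comp e.toMonoidHom
    inj := Φ.inj.comp e.injective
    good :=
      ⟨fun y => by
          have : (fun x => y * x) = fun x => e.symm (e y * e x) := funext fun x => by simp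
          rw [this]; exact hc'.comp ((Φ.good.left (e y)).comp hc),
        by
          have : (fun x : Γ' => x⁻¹) = fun x => e.symm (e x)⁻¹ := funext fun x => by simp
          rw [this]; exact hc'.comp (Φ.good.inv.comp hc),
        fun y => by
          have : (fun x => x * y * x⁻¹) = fun x => e.symm (e x * e y * (e x)⁻¹) := funext fun x => by simp
          rw [this]; exact hc'.comp ((Φ.good.conj (e y)).comp hc),
        fun y => by
          have : (fun x => x * y * x⁻¹ * y⁻¹) = fun x => e.symm (e x * e y * (e x)⁻¹ * (e y)⁻¹) :=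
            funext fun x => by simp
          rw [this]; exact hc'.comp ((Φ.good.comm (e y)).comp hc)⟩
    noeth :=
      have := Φ.noeth
      h.isInducing.noetherianSpace
    spec := fun S M => by
      have key := Φ.spec (e '' S) M
      have hev : ∀ f, (∀ s ∈ S, ev f ((Φ.ρ.comp e.toMonoidHom) s) = 0) ↔
          ∀ x ∈ (e '' S : Set Γ), ev f (Φ.ρ x) = 0 := fun f =>
        ⟨by rintro h _ ⟨s, hs, rfl⟩; exact h s hs, fun h s hs => h _ ⟨s, hs, rfl⟩⟩
      simp only [hev]
      rw [key, show closure (e '' S) = e '' closure S from (h.image_closure S).symm]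
      constructor
      · rintro ⟨_, ⟨x, hx, rfl⟩, hM⟩
        exact ⟨x, hx, hM⟩
      · rintro ⟨x, hx, hM⟩
        exact ⟨e x, ⟨x, hx, rfl⟩, hM⟩ }

end Transfer

section Hopf

open Groth.Agent.UnipLib (rho)

variable {k : Type u} [Field k] [IsAlgClosed k] {A : Type u} [CommRing A] [HopfAlgebra k A]
  [Algebra.FiniteType k A] [IsReduced A]

attribute [local instance] LieKolchin.zariski

/-- A faithful matrix representation of the points of an affine group. -/
theorem exists_rep_pts : ∃ N, Nonempty (Rep k (LieKolchin.Pts k A) N) := by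
  classical
  obtain ⟨s, hs⟩ := (inferInstance : Algebra.FiniteType k A).out
  obtain ⟨V, hVfin, hsV, hV⟩ := UnipLib.exists_stable (k := k) s
  let N := Module.finrank k V
  let b : Module.Basis (Fin N) k V := Module.finBasis k V
  let f : LieKolchin.Pts k A → Module.End k V := fun g => (rho g.ofConv).toLinearMap.restrict (hV g.ofConv)
  have hf1 : f 1 = 1 := LinearMap.ext fun v => Subtype.ext <| by
    refine UnipLib.ext_pts (k := k) fun x => ?_
    show x (rho _ (v : A)) = x v
    rw [UnipLib.pt_rho_self, toConv_ofConv, _root_.mul_one]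
  have hfm : ∀ g h, f (g * h) = f g * f h := fun g h => LinearMap.ext fun v => Subtype.ext <| by
    show rho (g * h).ofConv (v : A) = rho g.ofConv (rho h.ofConv (v : A))
    rw [UnipLib.rho_mul, toConv_ofConv, toConv_ofConv]
  let ρ : LieKolchin.Pts k A →* Matrix (Fin N) (Fin N) k :=
    { toFun := fun g => LinearMap.toMatrixAlgEquiv b (f g)
      map_one' := by rw [hf1, map_one]
      map_mul' := fun g h => by rw [hfm, map_mul] }
  -- coordinate functions
  let π : Fin N → A →ₗ[k] k := fun i =>
    ((b.coord i).comp (Submodule.subtype V).leftInverse)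
  have hπ : ∀ i (v : V), π i (v : A) = b.repr v i := fun i v => by
    show b.coord i ((Submodule.subtype V).leftInverse (Submodule.subtype V v)) = _
    rw [LinearMap.leftInverse_apply_of_inj (Submodule.ker_subtype V)]
    rfl
  choose c hc using fun p : Fin N × Fin N => GrpDimOne.exists_coeff (π p.1) ((b p.2 : V) : A)
  have hρ : ∀ g i j, ρ g i j = g.ofConv (c (i, j)) := fun g i j => by
    show LinearMap.toMatrixAlgEquiv b (f g) i j = _
    rw [hc, LinearMap.toMatrixAlgEquiv_apply, ← hπ]
    rfl
  let θ : MvPolynomial (Fin N × Fin N) k →ₐ[k] A := MvPolynomial.aeval c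
  have hev : ∀ g q, ev q (ρ g) = g.ofConv (θ q) := fun g q => by
    have e : (fun p : Fin N × Fin N => ρ g p.1 p.2) = fun p => g.ofConv (c p) := funext fun p => hρ g p.1 p.2
    show MvPolynomial.eval (fun p : Fin N × Fin N => ρ g p.1 p.2) q = _
    rw [e, ← AlgHom.comp_apply, MvPolynomial.comp_aeval, MvPolynomial.aeval_eq_eval]
  have hθ : Function.Surjective θ := by
    rw [← AlgHom.range_eq_top, eq_top_iff, ← hs]
    refine Algebra.adjoin_le fun a ha => ?_
    have hVle : V ≤ Subalgebra.toSubmodule θ.range := by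
      intro v hv
      have e : v = ∑ j, b.repr ⟨v, hv⟩ j • ((b j : V) : A) := by
        have := congrArg Subtype.val (b.sum_repr ⟨v, hv⟩).symm
        simp only [Submodule.coe_sum, Submodule.coe_smul] at this
        exact this
      rw [e]
      refine Submodule.sum_mem _ fun j _ => Submodule.smul_mem _ _ ?_
      refine ⟨∑ i, MvPolynomial.C (Coalgebra.counit (R := k) ((b i : V) : A)) * MvPolynomial.X (i, j), ?_⟩
      refine UnipLib.ext_pts (k := k) fun g => ?_
      show g (θ _) = g ((b j : V) : A)
      have h1 : ((f (toConv g) (b j) : V) : A) = rho g ((b j : V) : A) := rfl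
      have h2 : Bialgebra.counitAlgHom k A (rho g ((b j : V) : A)) = g ((b j : V) : A) := by
        rw [UnipLib.pt_rho_self, show toConv (Bialgebra.counitAlgHom k A) = (1 : LieKolchin.Pts k A) from
          WithConv.ofConv_injective (AlgHom.ext fun a => rfl), _root_.one_mul]
      rw [← h2, ← h1, ← b.sum_repr (f (toConv g) (b j))]
      simp only [map_sum, map_mul, θ, MvPolynomial.aeval_X, MvPolynomial.aeval_C, AlgHom.commutes,
        Submodule.coe_sum, Submodule.coe_smul, map_smul, Bialgebra.counitAlgHom_apply, smul_eq_mul]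
      refine Finset.sum_congr rfl fun i _ => ?_
      rw [show g (c (i, j)) = (toConv g).ofConv (c (i, j)) from rfl, hc, ← hπ i (f (toConv g) (b j)), mul_comm]
      rw [h1]
      rfl
    exact hVle (hsV ha)
  refine ⟨N, ⟨{ ρ := ρ, inj := ?_, good := LieKolchin.goodTop, noeth := ?_, spec := fun S M => ⟨?_, ?_⟩ }⟩⟩
  · intro g g' h
    refine WithConv.ext (AlgHom.ext fun a => ?_)
    obtain ⟨q, rfl⟩ := hθ a
    rw [← hev, ← hev, h]
  · have : IsNoetherianRing A := Algebra.FiniteType.isNoetherianRing k A
    exact (Topology.IsInducing.induced LieKolchin.toPrime).noetherianSpace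
  · intro h
    have hker : RingHom.ker θ.toRingHom ≤ RingHom.ker (MvPolynomial.eval fun p => M p.1 p.2) := fun q hq => by
      refine h q fun s _ => ?_
      rw [hev, show θ q = 0 from hq, map_zero]
    let g₀ : A →ₐ[k] k := AlgHom.liftOfSurjective θ hθ (MvPolynomial.aeval fun p => M p.1 p.2)
      (fun q hq => by simpa [RingHom.mem_ker, MvPolynomial.aeval_eq_eval] using hker hq)
    have hg₀ : ∀ q, g₀ (θ q) = ev q M := fun q => by
      rw [show g₀ (θ q) = (g₀.comp θ) q from rfl, AlgHom.liftOfSurjective_comp, MvPolynomial.aeval_eq_eval]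
    refine ⟨toConv g₀, ?_, Matrix.ext fun i j => ?_⟩
    · rw [(Topology.IsInducing.induced LieKolchin.toPrime).closure_eq_preimage_closure_image, Set.mem_preimage,
        ← PrimeSpectrum.zeroLocus_vanishingIdeal_eq_closure, PrimeSpectrum.mem_zeroLocus]
      intro a ha
      obtain ⟨q, rfl⟩ := hθ a
      show g₀ (θ q) = 0
      rw [hg₀]
      refine h q fun s hs => ?_
      rw [hev]
      exact (PrimeSpectrum.mem_vanishingIdeal _ _).1 ha _ ⟨s, hs, rfl⟩
    · rw [hρ]
      show g₀ (c (i, j)) = _
      have := hg₀ (MvPolynomial.X (i, j))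
      simpa [θ, ev] using this
  · rintro ⟨x, hx, rfl⟩ q hq
    rw [hev]
    exact closure_minimal (fun s hs => show s ∈ {y : LieKolchin.Pts k A | y.ofConv (θ q) = 0} by
      show s.ofConv _ = 0
      rw [← hev]; exact hq s hs) (LieKolchin.isClosed_setOf_eq _ _) hx

end Hopf

section Scheme

open Groth.Agent.Borel50.Pts

variable {k : Type u} [Field k] {G : Over (Spec (CommRingCat.of k))}

/-- The Zariski topology on rational points. -/
@[implicit_reducible]
def ptTop (G : Over (Spec (CommRingCat.of k))) : TopologicalSpace (Pt G) := TopologicalSpace.induced pt inferInstance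

attribute [local instance] ptTop

lemma continuous_comp {H : Over (Spec (CommRingCat.of k))} (f : G ⟶ H) : Continuous fun x : Pt G => x ≫ f :=
  continuous_induced_rng.2 (f.left.continuous.comp continuous_induced_dom)

lemma mem_closure_iff_pt {S : Set (Pt G)} {x : Pt G} : x ∈ closure S ↔ pt x ∈ closure (pt '' S) := by
  rw [(Topology.IsInducing.induced (pt : Pt G → G.left)).closure_eq_preimage_closure_image]
  rfl

variable [IsAlgClosed k]

/-- The rational points of a connected group are connected. -/
theorem preconnectedSpace_pt [LocallyOfFiniteType G.hom] [PreconnectedSpace G.left] :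
    PreconnectedSpace (Pt G) := by
  have : JacobsonSpace G.left := LocallyOfFiniteType.jacobsonSpace G.hom
  have hsurj : ∀ p ∈ closedPoints G.left, ∃ x : Pt G, pt x = p := fun p hp => exists_pt hp
  rw [preconnectedSpace_iff_clopen]
  intro s hs
  obtain ⟨U, hU, hUs⟩ := isOpen_induced_iff.1 hs.2
  obtain ⟨V, hV, hVs⟩ := isOpen_induced_iff.1 hs.compl.2
  have hcov : U ∪ V = Set.univ := by
    by_contra h
    obtain ⟨p, hp, hpc⟩ := nonempty_inter_closedPoints (Set.nonempty_compl.2 h)
      (hU.union hV).isClosed_compl.isLocallyClosed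
    obtain ⟨x, rfl⟩ := hsurj p hpc
    apply hp
    by_cases hx : x ∈ s
    · exact Or.inl (by rw [← hUs] at hx; exact hx)
    · exact Or.inr (by rw [← Set.mem_compl_iff, ← hVs] at hx; exact hx)
  have hdisj : U ∩ V = ∅ := by
    by_contra h
    obtain ⟨p, hp, hpc⟩ := nonempty_inter_closedPoints (Set.nonempty_iff_ne_empty.2 h)
      (hU.inter hV).isLocallyClosed
    obtain ⟨x, rfl⟩ := hsurj p hpc
    have h1 : x ∈ s := hUs ▸ (hp.1 : x ∈ pt ⁻¹' U)
    have h2 : x ∈ sᶜ := hVs ▸ (hp.2 : x ∈ pt ⁻¹' V)
    exact h2 h1
  have hclop : IsClopen U := by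
    refine ⟨?_, hU⟩
    have : U = Vᶜ := by
      ext p
      have h1 := Set.ext_iff.1 hcov p
      have h2 := Set.ext_iff.1 hdisj p
      simp only [Set.mem_union, Set.mem_univ, iff_true, Set.mem_inter_iff, Set.mem_empty_iff_false, iff_false,
        not_and] at h1 h2
      exact ⟨h2, fun h => h1.resolve_right h⟩
    rw [this]
    exact hV.isClosed_compl
  rcases isClopen_iff.1 hclop with h | h
  · left; rw [← hUs, h]; exact Set.preimage_empty
  · right; rw [← hUs, h]; exact Set.preimage_univ

variable [GrpObj G]

/-- The rational points of an affine reduced algebraic group form a linear group. -/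
theorem exists_rep [IsAffine G.left] [LocallyOfFiniteType G.hom] [IsReduced G.left] :
    ∃ N, Nonempty (Rep k (Pt G) N) := by
  obtain ⟨A, hA, e, he⟩ := AffGrp.Bridge.exists_iso (R := CommRingCat.of k) G
  let S := (Spec A).asOver (Spec (CommRingCat.of k))
  have : IsIso e.hom.left := inferInstanceAs (IsIso ((Over.forget _).map e.hom))
  have : IsReduced (Spec A) := by
    let φ : Spec A ⟶ G.left := e.hom.left
    have : IsIso φ := ‹IsIso e.hom.left›
    exact isReduced_of_isOpenImmersion φ
  have : _root_.IsReduced A := (affine_isReduced_iff A).1 inferInstance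
  have : Algebra.FiniteType k A := by
    have h : LocallyOfFiniteType S.hom := by rw [← Over.w e.hom]; infer_instance
    have h' : LocallyOfFiniteType (Spec.map (CommRingCat.ofHom (algebraMap k A))) := h
    rw [HasRingHomProperty.Spec_iff (P := @LocallyOfFiniteType)] at h'
    exact RingHom.finiteType_algebraMap.1 h'
  obtain ⟨N, ⟨Φ⟩⟩ := exists_rep_pts (k := k) (A := A)
  letI := LieKolchin.zariski (k := k) (A := A)
  let ee : (Spec (CommRingCat.of k)).asOver (Spec (CommRingCat.of k)) ≅ 𝟙_ (Over (Spec (CommRingCat.of k))) :=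
    Over.isoMk (Iso.refl _) (by
      show 𝟙 _ ≫ 𝟙 _ = Spec.map (CommRingCat.ofHom (algebraMap k k))
      simp)
  let φ : Pt G ≃* LieKolchin.Pts k A :=
    { toFun := fun g => Spec.mapMulEquiv.symm (ee.hom ≫ g ≫ e.inv)
      invFun := fun w => ee.inv ≫ Spec.mapMulEquiv w ≫ e.hom
      left_inv := fun g => by simp
      right_inv := fun w => by
        show Spec.mapMulEquiv.symm (ee.hom ≫ (ee.inv ≫ Spec.mapMulEquiv w ≫ e.hom) ≫ e.inv) = w
        simp
      map_mul' := fun g h => by
        rw [← map_mul, ← MonObj.comp_mul, ← MonObj.mul_comp] }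
  have hprime : ∀ w : LieKolchin.Pts k A, LieKolchin.toPrime w =
      (Spec.mapMulEquiv w).left.base (IsLocalRing.closedPoint k) := fun w => by
    refine PrimeSpectrum.ext (Ideal.ext fun a => ?_)
    show a ∈ RingHom.ker w.ofConv.toRingHom ↔ w.ofConv.toRingHom a ∈ IsLocalRing.maximalIdeal k
    rw [RingHom.mem_ker, IsLocalRing.maximalIdeal_eq_bot, Ideal.mem_bot]
  have hpt : ∀ g : Pt G, LieKolchin.toPrime (φ g) = e.inv.left.base (pt g) := fun g => by
    rw [hprime, show Spec.mapMulEquiv (φ g) = ee.hom ≫ g ≫ e.inv from MulEquiv.apply_symm_apply _ _]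
    rfl
  refine ⟨N, ⟨Φ.comapEquiv φ ?_ ?_⟩⟩
  · refine continuous_induced_rng.2 ?_
    rw [show LieKolchin.toPrime ∘ φ = e.inv.left.base ∘ pt from funext hpt]
    exact e.inv.left.continuous.comp continuous_induced_dom
  · refine continuous_induced_rng.2 ?_
    have : pt ∘ φ.symm = e.hom.left.base ∘ LieKolchin.toPrime := funext fun w => by
      show pt (ee.inv ≫ Spec.mapMulEquiv w ≫ e.hom) = e.hom.left.base (LieKolchin.toPrime w)
      rw [hprime]
      rfl
    rw [this]
    exact e.hom.left.continuous.comp continuous_induced_dom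

/-- A closed group of rational points comes from a smooth closed subgroup scheme. -/
theorem exists_sub [Smooth G.hom] [QuasiCompact G.hom] (H : Subgroup (Pt G)) (hH : IsClosed (H : Set (Pt G))) :
    ∃ (K : Over (Spec (CommRingCat.of k))) (_ : GrpObj K) (i : K ⟶ G), IsMonHom i ∧ IsClosedImmersion i.left ∧
      Smooth K.hom ∧ QuasiCompact K.hom ∧ (∀ x, x ∈ H ↔ ∃ h : Pt K, h ≫ i = x) ∧
      (_root_.IsPreconnected (H : Set (Pt G)) → ConnectedSpace K.left) := by
  obtain ⟨K, _, i, _, _, _, hqc, hr, hl⟩ := Pts.exists_closure H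
  refine ⟨K, ‹_›, i, ‹_›, ‹_›, ‹_›, hqc, fun x => ⟨hl x, ?_⟩, fun hpre => ?_⟩
  · rintro ⟨h, rfl⟩
    rw [← SetLike.mem_coe, ← hH.closure_eq, mem_closure_iff_pt, ← show Set.range i.left = closure (pt '' (H : Set (Pt G))) from hr]
    exact mem_range_of_factor rfl
  · have h1 : _root_.IsPreconnected (Set.range i.left) := by
      rw [hr]
      exact (hpre.image _ continuous_induced_dom.continuousOn).closure
    exact { toPreconnectedSpace := ⟨by
              refine i.left.isClosedEmbedding.isInducing.isPreconnected_image.1 ?_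
              rwa [Set.image_univ]⟩
            toNonempty := ⟨pt (1 : Pt K)⟩ }

end Scheme

end Groth.Agent.Borel50.Lin
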