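import Groth.Agent.Borel50.Lin.TorusAlg
import Groth.Agent.Borel50.Lin.Points
import Groth.Agent.Borel50.BaseChange
import Groth.Agent.UnipLib.Scheme
import Groth.Agent.UnipLib.Split
import Groth.Agent.GITLib.TorusChars
import Groth.Agent.TorusFld.Chars
import Groth.Agent.GrpScheme.Smooth
import Groth.Agent.DiagRig.TorusBasic
import Groth.Agent.DiagRig.MultProp

/-!
# Tori and their rational points
-/

set_option autoImplicit false
set_option linter.style.haveILetI false
universe u

open CategoryTheory MonoidalCategory CartesianMonoidalCategory MonObj GrpObj AlgebraicGeometry Limits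
open WithConv
open scoped TensorProduct

noncomputable section

namespace Groth.Agent.Borel50.Lin.TorusSch

open Groth.Agent.Borel50.Pts Groth.Agent.RedPts Groth.Agent.UnipLib

/-- Tori are stable under isomorphisms. -/
theorem isTorus_of_iso {S : Scheme.{u}} {T T' : Over S} [GrpObj T] [GrpObj T'] (e : T ≅ T') [IsMonHom e.hom]
    (hT : Red.IsTorus T) : Red.IsTorus T' := by
  obtain ⟨S', f, h1, h2, h3, h4⟩ := hT
  refine ⟨S', f, h1, h2, h3, fun s => ?_⟩
  obtain ⟨U, hU, r, ⟨E⟩⟩ := h4 s
  exact ⟨U, hU, r, ⟨((Over.pullback (U.ι ≫ f)).mapGrp.mapIso (Grp.mkIso' e)).symm ≪≫ E⟩⟩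

lemma bc_comp {A B C : Scheme.{u}} (p : A ⟶ B) (q : B ⟶ C) (r : A ⟶ C) (h : r = p ≫ q) (X : Over C) [GrpObj X] :
    Nonempty (Grp.mk (Red.bc p (Red.bc q X)) ≅ Grp.mk (Red.bc r X)) := by
  subst h
  exact ⟨(Functor.mapGrpCompIso (F := Over.pullback q) (G := Over.pullback p)).symm.app (Grp.mk X) ≪≫
    (Functor.mapGrpNatIso (Over.pullbackComp p q).symm).app (Grp.mk X)⟩

variable {k : Type u} [Field k]

local notation "Sk" => Spec (CommRingCat.of k)

/-- A torus over a field splits over some extension field. -/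
theorem exists_split_field {T : Over Sk} [GrpObj T] (hT : Red.IsTorus T) :
    ∃ (r : ℕ) (L : Type u) (_ : Field L) (_ : Algebra k L),
      Red.IsSplitTorusWith (Fin r → ℤ) (Red.bc (Spec.map (CommRingCat.ofHom (algebraMap k L))) T) := by
  obtain ⟨S', f, -, hf, -, hloc⟩ := hT
  obtain ⟨s', -⟩ := hf.surj (show Sk from (default : PrimeSpectrum k))
  obtain ⟨U, hs', r, ⟨E⟩⟩ := hloc s'
  let z : U.toScheme := ⟨s', hs'⟩
  let κ := U.toScheme.residueField z
  let j : Spec κ ⟶ U.toScheme := U.toScheme.fromSpecResidueField z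
  let φ : CommRingCat.of k ⟶ κ := Spec.preimage (j ≫ U.ι ≫ f)
  letI : Algebra k κ := φ.hom.toAlgebra
  have hp : Spec.map (CommRingCat.ofHom (algebraMap k κ)) = j ≫ U.ι ≫ f := by
    rw [show CommRingCat.ofHom (algebraMap k κ) = φ from rfl]
    exact Spec.map_preimage _
  refine ⟨r, κ, inferInstance, inferInstance, ?_⟩
  obtain ⟨i₁⟩ := bc_comp j (U.ι ≫ f) _ hp T
  obtain ⟨i₂⟩ := bc_comp j (Limits.IsTerminal.from specULiftZIsTerminal U.toScheme)
    (Limits.IsTerminal.from specULiftZIsTerminal (Spec κ)) (specULiftZIsTerminal.hom_ext _ _)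
    (Red.diag (ULift.{u} ℤ) (Fin r → ℤ))
  exact ⟨i₁.symm ≪≫ (Over.pullback j).mapGrp.mapIso E ≪≫ i₂⟩

attribute [local instance] algOf in
/-- A Laurent polynomial Hopf algebra gives a torus. -/
theorem isTorus_of_laurent {A : Type u} [CommRing A] [HopfAlgebra k A] {m : ℕ}
    (L : MonoidAlgebra k (Multiplicative (Fin m → ℤ)) ≃ₐc[k] A) :
    Red.IsTorus ((Spec (CommRingCat.of A)).asOver Sk) := by
  classical
  let T := Red.DS Sk (Fin m → ℤ)
  let Tt := (Spec (CommRingCat.of A)).asOver Sk
  let Li : A →ₐ[k] MonoidAlgebra k (Multiplicative (Fin m → ℤ)) :=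
    ((L.symm : A ≃ₐc[k] MonoidAlgebra k (Multiplicative (Fin m → ℤ))) : A →ₐ[k] _)
  let chr : ∀ {X : Over Sk}, (X ⟶ T) → (Multiplicative (Fin m → ℤ) →* Γ(X.left, ⊤)) := fun {X} x =>
    { toFun := fun z => dFn x (Multiplicative.toAdd z)
      map_one' := d_zero x
      map_mul' := fun a b => d_add x _ _ }
  let j : T ⟶ Tt := ptHom T (toConv ((MonoidAlgebra.lift k _ _ (chr (𝟙 T))).comp Li))
  have hj : ∀ {X : Over Sk} (x : X ⟶ T),
      x ≫ j = ptHom X (toConv ((MonoidAlgebra.lift k _ _ (chr x)).comp Li)) := by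
    intro X x
    refine comp_ptHom x _ _ fun a => ?_
    let φ : Γ(T.left, ⊤) →ₐ[k] Γ(X.left, ⊤) :=
      { x.left.appTop.hom with
        commutes' := fun c => by
          show x.left.appTop (T.hom.appTop ((Scheme.ΓSpecIso (CommRingCat.of k)).inv c)) =
            X.hom.appTop ((Scheme.ΓSpecIso (CommRingCat.of k)).inv c)
          exact congr(Scheme.Hom.appTop $(Over.w x) ((Scheme.ΓSpecIso (CommRingCat.of k)).inv c)) }
    have e : MonoidAlgebra.lift k _ _ (chr x) = φ.comp (MonoidAlgebra.lift k _ _ (chr (𝟙 T))) :=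
      MonoidAlgebra.algHom_ext (fun z => by
        simp only [AlgHom.comp_apply, MonoidAlgebra.lift_single, one_smul]
        show dFn x (Multiplicative.toAdd z) = x.left.appTop (dFn (𝟙 T) (Multiplicative.toAdd z))
        rw [← d_comp, Category.comp_id]) (Algebra.ext_id _ _ _)
    show MonoidAlgebra.lift k _ _ (chr x) (Li a) = _
    rw [e]
    rfl
  have hLi : ∀ z, Li (L (MonoidAlgebra.single z 1)) = MonoidAlgebra.single z 1 := fun z => L.symm_apply_apply _
  have hgl : ∀ z, IsGroupLikeElem k (L (MonoidAlgebra.single z (1 : k))) := fun z =>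
    (MonoidAlgebra.isGroupLikeElem_single_one z).map L
  have hmult : ∀ {R : Type u} [CommRing R] [Algebra k R] (x y : Multiplicative (Fin m → ℤ) →* R),
      toConv ((MonoidAlgebra.lift k R _ (x * y)).comp Li) =
        toConv ((MonoidAlgebra.lift k R _ x).comp Li) * toConv ((MonoidAlgebra.lift k R _ y).comp Li) := by
    intro R _ _ x y
    refine WithConv.ofConv_injective (AlgHom.ext fun a => ?_)
    obtain ⟨q, rfl⟩ := EquivLike.surjective L a
    induction q using MonoidAlgebra.induction_linear with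
    | zero => simp
    | add p q hp hq => simp only [map_add, hp, hq]
    | single z c =>
      rw [show MonoidAlgebra.single z c = c • MonoidAlgebra.single z (1 : k) by simp, map_smul, map_smul, map_smul]
      congr 1
      rw [AlgHom.convMul_apply, (hgl z).comul_eq_tmul_self, Algebra.TensorProduct.lift_tmul]
      simp only [ofConv_toConv, AlgHom.comp_apply, hLi, MonoidAlgebra.lift_single, one_smul, MonoidHom.mul_apply]
  haveI : IsMonHom j := WittLib.Basic.isMonHom_of_points _ fun X x y => by
    rw [hj, hj, hj, ← ptHom_mul, ← hmult]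
    congr 4
    ext z
    exact d_mul x y _
  haveI : Mono j := ⟨fun {X} x y h => by
    rw [hj, hj] at h
    have h' := congrArg WithConv.ofConv (ptHom_injective X h)
    simp only [ofConv_toConv] at h'
    refine d_ext fun z => ?_
    have := congr($h' (L (MonoidAlgebra.single (Multiplicative.ofAdd z) 1)))
    simp only [AlgHom.comp_apply, hLi, MonoidAlgebra.lift_single, one_smul] at this
    exact this⟩
  obtain ⟨f, hf⟩ := ptHom_surjective (A := A) Tt (𝟙 Tt)
  obtain ⟨i, hi⟩ := d_surjective (S := Sk) (X := Tt) (M := Fin m → ℤ)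
    { toFun := fun z => f.ofConv (L (MonoidAlgebra.single z 1))
      map_one' := by rw [← MonoidAlgebra.one_def, map_one, map_one]
      map_mul' := fun a b => by
        rw [← map_mul, ← map_mul, MonoidAlgebra.single_mul_single, _root_.mul_one] }
  have hij : i ≫ j = 𝟙 Tt := by
    rw [hj, ← hf]
    congr 1
    refine WithConv.ofConv_injective ?_
    refine AlgHom.ext fun a => ?_
    obtain ⟨q, rfl⟩ := EquivLike.surjective L a
    induction q using MonoidAlgebra.induction_linear with
    | zero => simp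
    | add p q hp hq => simp only [map_add, hp, hq]
    | single z c =>
      rw [show MonoidAlgebra.single z c = c • MonoidAlgebra.single z (1 : k) by simp, map_smul, map_smul, map_smul]
      congr 1
      simp only [ofConv_toConv, AlgHom.comp_apply, hLi, MonoidAlgebra.lift_single, one_smul]
      exact hi (Multiplicative.toAdd z)
  have hji : j ≫ i = 𝟙 T := by
    rw [← cancel_mono j, Category.assoc, hij, Category.comp_id, Category.id_comp]
  let e : T ≅ Tt := ⟨j, i, hji, hij⟩
  haveI : IsMonHom e.hom := ‹IsMonHom j›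
  exact isTorus_of_iso e (isTorus_DS m)

attribute [local instance] ptTop LieKolchin.zariski

/-- The rational points of an affine model. -/
theorem exists_ptsEquiv {T : Over Sk} [GrpObj T] {A : CommRingCat.{u}} [HopfAlgebra k A]
    (e : (Spec A).asOver Sk ≅ T) [IsMonHom e.hom] :
    ∃ φ : Pt T ≃* LieKolchin.Pts k A, Continuous φ ∧ Continuous φ.symm := by
  haveI : IsIso e.hom.left := inferInstanceAs (IsIso ((Over.forget _).map e.hom))
  let ee : (Spec (CommRingCat.of k)).asOver Sk ≅ 𝟙_ (Over Sk) :=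
    Over.isoMk (Iso.refl _) (by
      show 𝟙 _ ≫ 𝟙 _ = Spec.map (CommRingCat.ofHom (algebraMap k k))
      simp)
  let φ : Pt T ≃* LieKolchin.Pts k A :=
    { toFun := fun g => Spec.mapMulEquiv.symm (ee.hom ≫ g ≫ e.inv)
      invFun := fun w => ee.inv ≫ Spec.mapMulEquiv w ≫ e.hom
      left_inv := fun g => by simp
      right_inv := fun w => by
        show Spec.mapMulEquiv.symm (ee.hom ≫ (ee.inv ≫ Spec.mapMulEquiv w ≫ e.hom) ≫ e.inv) = w
        simp
      map_mul' := fun g h => by
        rw [← map_mul, ← MonObj.comp_mul, ← MonObj.mul_comp] }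
  have hprime : ∀ w : LieKolchin.Pts k A, LieKolchin.toPrime w =
      (Spec.mapMulEquiv w).left.base (IsLocalRing.closedPoint k) := fun w => by
    refine PrimeSpectrum.ext (Ideal.ext fun a => ?_)
    show a ∈ RingHom.ker w.ofConv.toRingHom ↔ w.ofConv.toRingHom a ∈ IsLocalRing.maximalIdeal k
    rw [RingHom.mem_ker, IsLocalRing.maximalIdeal_eq_bot, Ideal.mem_bot]
  refine ⟨φ, continuous_induced_rng.2 ?_, continuous_induced_rng.2 ?_⟩
  · have : LieKolchin.toPrime ∘ φ = e.inv.left.base ∘ pt := funext fun g => by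
      show LieKolchin.toPrime (φ g) = _
      rw [hprime, show Spec.mapMulEquiv (φ g) = ee.hom ≫ g ≫ e.inv from MulEquiv.apply_symm_apply _ _]
      rfl
    rw [this]
    exact e.inv.left.continuous.comp continuous_induced_dom
  · have : pt ∘ φ.symm = e.hom.left.base ∘ LieKolchin.toPrime := funext fun w => by
      show pt (ee.inv ≫ Spec.mapMulEquiv w ≫ e.hom) = e.hom.left.base (LieKolchin.toPrime w)
      rw [hprime]
      rfl
    rw [this]
    exact e.hom.left.continuous.comp continuous_induced_dom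

lemma finiteType_of_model {T : Over Sk} [GrpObj T] [LocallyOfFiniteType T.hom] {A : CommRingCat.{u}} [HopfAlgebra k A]
    (e : (Spec A).asOver Sk ≅ T) : Algebra.FiniteType k A := by
  haveI : IsIso e.hom.left := inferInstanceAs (IsIso ((Over.forget _).map e.hom))
  have h : LocallyOfFiniteType ((Spec A).asOver Sk).hom := by rw [← Over.w e.hom]; infer_instance
  have h' : LocallyOfFiniteType (Spec.map (CommRingCat.ofHom (algebraMap k A))) := h
  rw [HasRingHomProperty.Spec_iff (P := @LocallyOfFiniteType)] at h'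
  exact RingHom.finiteType_algebraMap.1 h'

variable [IsAlgClosed k]

/-- Tori over an algebraically closed field. -/
theorem torus_facts {T : Over Sk} [GrpObj T] (hT : Red.IsTorus T) :
    IsAffine T.left ∧ LocallyOfFiniteType T.hom ∧ IsIntegral T.left ∧ Smooth T.hom ∧
      (∀ x y : Pt T, x * y = y * x) ∧
      closure {x : Pt T | ∃ n : ℕ, (n : k) ≠ 0 ∧ x ^ n = 1} = Set.univ := by
  have hM := DiagRig.multTypeFT_of_torus hT
  have := DiagRig.multType_isAffineHom T hM
  have := DiagRig.multType_locallyOfFiniteType T hM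
  have : IsAffine T.left := isAffine_of_isAffineHom T.hom
  obtain ⟨A, hA, e, he⟩ := AffGrp.Bridge.exists_iso (R := CommRingCat.of k) T
  letI : HopfAlgebra k A := hA
  haveI : IsMonHom e.hom := he
  have hft : Algebra.FiniteType k A := finiteType_of_model e
  obtain ⟨r, L, _, _, ⟨e'⟩⟩ := exists_split_field hT
  obtain ⟨φ, -, hbij⟩ := TorusFld.exists_chars L (A := A) T e e'
  have hdom₁ : IsDomain (L ⊗[k] A) :=
    MulEquiv.isDomain_iff (RingEquiv.ofBijective _ hbij).toMulEquiv |>.1 inferInstance
  have hinc : Function.Injective (Algebra.TensorProduct.includeRight : A →ₐ[k] L ⊗[k] A) :=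
    Algebra.TensorProduct.includeRight_injective (algebraMap k L).injective
  haveI hdom : IsDomain A := hinc.isDomain _
  haveI : IsIso e.hom.left := inferInstanceAs (IsIso ((Over.forget _).map e.hom))
  haveI hint : IsIntegral T.left := by
    haveI : IsIntegral (Spec A) := (affine_isIntegral_iff A).2 hdom
    haveI : Nonempty T.left := (inferInstance : Nonempty (Spec A)).map e.hom.left.base
    let φ : T.left ⟶ Spec A := e.inv.left
    haveI : IsIso φ := inferInstanceAs (IsIso ((Over.forget _).map e.inv))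
    exact isIntegral_of_isOpenImmersion φ
  refine ⟨‹_›, ‹_›, hint, GrpScheme.Smooth.smooth_of_perfectField T, ?_⟩
  obtain ⟨K, _, _, hK⟩ := GITLib.TorusChars.exists_field_span e hT
  have hspan := GITLib.TorusChars.span_groupLike_eq_top K hK
  obtain ⟨m, ⟨E⟩⟩ := TorusAlg.exists_laurent hspan
  obtain ⟨ψ, hψ, hψ'⟩ := exists_ptsEquiv e
  refine ⟨fun x y => ψ.injective ?_, ?_⟩
  · rw [map_mul, map_mul]
    exact TorusAlg.chars_injective E (by rw [map_mul, map_mul, _root_.mul_comm])
  · let h : Pt T ≃ₜ LieKolchin.Pts k A := ⟨ψ.toEquiv, hψ, hψ'⟩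
    have himg : {x : Pt T | ∃ n : ℕ, (n : k) ≠ 0 ∧ x ^ n = 1} =
        h ⁻¹' {x | ∃ n : ℕ, (n : k) ≠ 0 ∧ x ^ n = 1} := by
      ext x
      show (∃ n : ℕ, (n : k) ≠ 0 ∧ x ^ n = 1) ↔ ∃ n : ℕ, (n : k) ≠ 0 ∧ (ψ x) ^ n = 1
      simp only [← map_pow, map_eq_one_iff ψ ψ.injective]
    rw [himg, ← h.preimage_closure, TorusAlg.closure_torsion E, Set.preimage_univ]

/-- A smooth connected affine group with dense commuting torsion points of order prime to the characteristic is a torus. -/
theorem isTorus_of_points {K : Over Sk} [GrpObj K] [IsAffine K.left] [Smooth K.hom] [ConnectedSpace K.left]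
    (S : Set (Pt K)) (hcomm : ∀ x ∈ S, ∀ y ∈ S, x * y = y * x)
    (htor : ∀ x ∈ S, ∃ n : ℕ, (n : k) ≠ 0 ∧ x ^ n = 1) (hS : closure S = Set.univ) :
    Red.IsTorus K := by
  obtain ⟨A, hA, e, he⟩ := AffGrp.Bridge.exists_iso (R := CommRingCat.of k) K
  letI : HopfAlgebra k A := hA
  haveI : IsMonHom e.hom := he
  haveI : Algebra.FiniteType k A := finiteType_of_model e
  have hirr : IrreducibleSpace K.left := by
    have h1 : irreducibleComponent (GrpScheme.IdComponent.e₀ K) = Set.univ := by
      rw [← GrpScheme.IdComponent.connectedComponent_eq]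
      exact PreconnectedSpace.connectedComponent_eq_univ _
    exact { toPreirreducibleSpace := ⟨h1 ▸ (isIrreducible_irreducibleComponent).2⟩
            toNonempty := ⟨GrpScheme.IdComponent.e₀ K⟩ }
  haveI := GrpScheme.HomFlat.isReduced_of_smooth K.hom
  haveI : IsIntegral K.left := isIntegral_of_irreducibleSpace_of_isReduced _
  haveI : IsIso e.hom.left := inferInstanceAs (IsIso ((Over.forget _).map e.hom))
  haveI : IsIntegral (Spec A) := by
    haveI : Nonempty (Spec A) := (inferInstance : Nonempty K.left).map e.inv.left.base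
    let φ : Spec A ⟶ K.left := e.hom.left
    haveI : IsIso φ := ‹IsIso e.hom.left›
    exact isIntegral_of_isOpenImmersion φ
  haveI : IsDomain A := (affine_isIntegral_iff A).1 inferInstance
  obtain ⟨ψ, hψ, hψ'⟩ := exists_ptsEquiv e
  let h : Pt K ≃ₜ LieKolchin.Pts k A := ⟨ψ.toEquiv, hψ, hψ'⟩
  have hspan := TorusAlg.span_of_dense (h '' S)
    (by rintro _ ⟨x, hx, rfl⟩ _ ⟨y, hy, rfl⟩
        show ψ x * ψ y = ψ y * ψ x
        rw [← map_mul, hcomm x hx y hy, map_mul])
    (by rintro _ ⟨x, hx, rfl⟩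
        obtain ⟨n, hn, hxn⟩ := htor x hx
        exact ⟨n, hn, show ψ x ^ n = 1 by rw [← map_pow, hxn, map_one]⟩)
    (by rw [← h.image_closure, hS, Set.image_univ]; exact h.surjective.range_eq)
  obtain ⟨m, ⟨E⟩⟩ := TorusAlg.exists_laurent hspan
  exact isTorus_of_iso e (isTorus_of_laurent E)

end Groth.Agent.Borel50.Lin.TorusSch
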