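import Groth.Agent.Borel50.Lin.Triangular
import Mathlib.Algebra.CharP.Basic
import Mathlib.Algebra.Field.ZMod

/-!
# Centralisers of torsion elements in connected triangular groups
-/

set_option autoImplicit false
universe u v

noncomputable section

namespace Groth.Agent.Borel50.Lin

namespace Rep

variable {k : Type u} [Field k] {N : ℕ} {Γ : Type v} [Group Γ] [TopologicalSpace Γ] (Φ : Rep k Γ N)

/-- Partial products of `x⁻¹ s^i x s^-i`. -/
def twistProd (s x : Γ) : ℕ → Γ
  | 0 => 1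
  | i + 1 => twistProd s x i * (x⁻¹ * (s ^ i * x * (s ^ i)⁻¹))

/-- The averaging map attached to an element of order `n`. -/
def avg (s : Γ) (n l : ℕ) (x : Γ) : Γ := x * twistProd s x n ^ l

omit [TopologicalSpace Γ] in
lemma twistProd_of_commute {s x : Γ} (h : x * s = s * x) : ∀ i, twistProd s x i = 1
  | 0 => rfl
  | i + 1 => by
    have hc : Commute x (s ^ i) := (show Commute x s from h).pow_right i
    rw [twistProd, twistProd_of_commute h i, one_mul, ← hc.eq]
    group

omit [TopologicalSpace Γ] in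
lemma avg_of_commute {s x : Γ} (h : x * s = s * x) (n l : ℕ) : avg s n l x = x := by
  rw [avg, twistProd_of_commute h, one_pow, mul_one]

lemma unipotent_normal_conj (hup : ∀ x, Φ.ρ x ∈ fil k N 0) {m : ℕ} {a : Γ} (ha : a ∈ Φ.unipotent hup m) (y : Γ) :
    y * a * y⁻¹ ∈ Φ.unipotent hup m := by
  show Φ.ρ (y * a * y⁻¹) - 1 ∈ fil k N m
  have e : Φ.ρ (y * a * y⁻¹) - 1 = Φ.ρ y * (Φ.ρ a - 1) * Φ.ρ y⁻¹ := by
    rw [map_mul, map_mul, mul_sub, sub_mul, mul_one, ← map_mul Φ.ρ y y⁻¹, mul_inv_cancel, map_one]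
  rw [e]
  exact fil_mono (by omega) (mul_mem_fil (mul_mem_fil (hup y) ha) (hup y⁻¹))

/-- The leading term of an element of the `m`-th step. -/
def lead (hup : ∀ x, Φ.ρ x ∈ fil k N 0) {m : ℕ} (hm : 1 ≤ m) :
    Φ.unipotent hup m →* Multiplicative (Matrix (Fin N) (Fin N) k ⧸ fil k N (m + 1)) where
  toFun a := Multiplicative.ofAdd ((fil k N (m + 1)).mkQ (Φ.ρ (a : Γ) - 1))
  map_one' := by simp
  map_mul' a b := by
    rw [← ofAdd_add, ← map_add]
    refine congrArg Multiplicative.ofAdd ((Submodule.Quotient.eq _).2 ?_)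
    have e : Φ.ρ ((a : Γ) * b) - 1 - (Φ.ρ (a : Γ) - 1 + (Φ.ρ (b : Γ) - 1)) =
        (Φ.ρ (a : Γ) - 1) * (Φ.ρ (b : Γ) - 1) := by rw [map_mul]; noncomm_ring
    rw [Subgroup.coe_mul, e]
    exact fil_mono (by omega) (mul_mem_fil a.2 b.2)

lemma mem_succ_of_lead (hup : ∀ x, Φ.ρ x ∈ fil k N 0) {m : ℕ} (hm : 1 ≤ m) {a : Φ.unipotent hup m}
    (h : Φ.lead hup hm a = 1) : (a : Γ) ∈ Φ.unipotent hup (m + 1) := by
  have h' : (fil k N (m + 1)).mkQ (Φ.ρ (a : Γ) - 1) = 0 := congrArg Multiplicative.toAdd h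
  exact (Submodule.Quotient.mk_eq_zero _).1 h'

private lemma comm_aux {M : Type*} [CommGroup M] (a b c e : M) : a * (b * c⁻¹) * (e * c) = a * e * b := by
  calc a * (b * c⁻¹) * (e * c) = a * (b * c⁻¹) * (c * e) := by rw [mul_comm e c]
    _ = a * (b * e) := by group
    _ = a * e * b := by rw [mul_comm b e, mul_assoc]

/-- One step of averaging improves the commutation with `s` by one level. -/
theorem avg_step (hup : ∀ x, Φ.ρ x ∈ fil k N 0) {s x : Γ} {n l m : ℕ} (hm : 1 ≤ m) (hs : s ^ n = 1)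
    (hl : (l : k) * (n : k) = 1) (hx : x⁻¹ * (s * x * s⁻¹) ∈ Φ.unipotent hup m) :
    (avg s n l x)⁻¹ * (s * avg s n l x * s⁻¹) ∈ Φ.unipotent hup (m + 1) := by
  set U := Φ.unipotent hup m
  let V := Matrix (Fin N) (Fin N) k ⧸ fil k N (m + 1)
  let L := Φ.lead hup hm
  let σ : U →* U :=
    { toFun := fun a => ⟨s * a * s⁻¹, Φ.unipotent_normal_conj hup a.2 s⟩
      map_one' := Subtype.ext (by simp)
      map_mul' := fun a b => Subtype.ext (by simp [mul_assoc]) }
  let d : U := ⟨x⁻¹ * (s * x * s⁻¹), hx⟩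
  let δ : ℕ → U := fun i => Nat.rec 1 (fun _ a => d * σ a) i
  have hδ : ∀ i : ℕ, Subtype.val (δ i) = x⁻¹ * (s ^ i * x * (s ^ i)⁻¹) := by
    intro i
    induction i with
    | zero => show (1 : Γ) = _; simp
    | succ i ih =>
      show Subtype.val d * (s * Subtype.val (δ i) * s⁻¹) = _
      rw [ih]
      show x⁻¹ * (s * x * s⁻¹) * _ = _
      rw [pow_succ']
      group
  let P : ℕ → U := fun i => Nat.rec 1 (fun j a => a * δ j) i
  have hP : ∀ i : ℕ, Subtype.val (P i) = twistProd s x i := by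
    intro i
    induction i with
    | zero => rfl
    | succ i ih =>
      show Subtype.val (P i) * Subtype.val (δ i) = _
      rw [ih, hδ]
      rfl
  have hn : δ n = 1 := Subtype.ext (by rw [hδ, hs]; simp)
  have hL : ∀ i, L (σ (δ i)) = L (δ (i + 1)) * (L d)⁻¹ := by
    intro i
    rw [show δ (i + 1) = d * σ (δ i) from rfl, map_mul, mul_comm (L d), mul_inv_cancel_right]
  have hsum : ∀ i, L (σ (P i)) * (L d) ^ i = L (P i) * L (δ i) := by
    intro i
    induction i with
    | zero => show L (σ 1) * _ = L 1 * L 1; simp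
    | succ i ih =>
      show L (σ (P i * δ i)) * _ = L (P i * δ i) * _
      rw [map_mul, map_mul, map_mul, hL, pow_succ]
      rw [comm_aux, ih]
  have hd : ((L d) ^ n) ^ l = L d := by
    rw [← pow_mul]
    refine Multiplicative.toAdd.injective ?_
    rw [toAdd_pow, ← Nat.cast_smul_eq_nsmul k, Nat.cast_mul, mul_comm, hl, one_smul]
  let E : U := P n ^ l
  have hE : ((E⁻¹ * (d * σ E) : U) : Γ) = (avg s n l x)⁻¹ * (s * avg s n l x * s⁻¹) := by
    show (((P n ^ l : U) : Γ))⁻¹ * (x⁻¹ * (s * x * s⁻¹) * (s * ((P n ^ l : U) : Γ) * s⁻¹)) = _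
    rw [SubmonoidClass.coe_pow, hP, avg]
    group
  have key : L (E⁻¹ * (d * σ E)) = 1 := by
    have h1 := hsum n
    rw [hn, map_one, mul_one] at h1
    calc L (E⁻¹ * (d * σ E)) = (L (P n) ^ l)⁻¹ * (L d * L (σ (P n)) ^ l) := by
          simp only [E, map_mul, map_inv, map_pow]
      _ = (L (P n) ^ l)⁻¹ * ((L (σ (P n)) * (L d) ^ n) ^ l) := by rw [mul_pow, hd, mul_comm (L d)]
      _ = 1 := by rw [h1, inv_mul_cancel]
  rw [← hE]
  exact Φ.mem_succ_of_lead hup hm key

/-- Iterated averaging lands in the centraliser. -/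
theorem iterate_avg_commute (hup : ∀ x, Φ.ρ x ∈ fil k N 0) {s : Γ} {n l : ℕ} (hs : s ^ n = 1)
    (hl : (l : k) * (n : k) = 1) (x : Γ) : (avg s n l)^[N] x * s = s * (avg s n l)^[N] x := by
  have key : ∀ j, ((avg s n l)^[j] x)⁻¹ * (s * (avg s n l)^[j] x * s⁻¹) ∈ Φ.unipotent hup (j + 1) := by
    intro j
    induction j with
    | zero =>
      refine Φ.mem_unipotent_of_diag ?_
      show Φ.diagHom hup (x⁻¹ * (s * x * s⁻¹)) = 1
      calc Φ.diagHom hup (x⁻¹ * (s * x * s⁻¹))
          = (Φ.diagHom hup x⁻¹ * Φ.diagHom hup x) * (Φ.diagHom hup s * Φ.diagHom hup s⁻¹) := by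
            simp only [map_mul]; ring
        _ = 1 := by rw [← map_mul, ← map_mul, inv_mul_cancel, mul_inv_cancel, map_one, mul_one]
    | succ j ih =>
      rw [Function.iterate_succ_apply']
      exact Φ.avg_step hup (by omega) hs hl ih
  have h := key N
  have e : ((avg s n l)^[N] x)⁻¹ * (s * (avg s n l)^[N] x * s⁻¹) = 1 := Φ.inj (by
    rw [map_one, ← sub_eq_zero]
    exact eq_zero_of_fil (Nat.le_succ N) h)
  rw [inv_mul_eq_one] at e
  conv_lhs => rw [e]
  group

/-- In positive characteristic the centraliser of a torsion element of a connected triangular group is connected. -/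
theorem preconnected_centralizer_charP [PreconnectedSpace Γ] (hup : ∀ x, Φ.ρ x ∈ fil k N 0) (p : ℕ) [Fact p.Prime]
    [CharP k p] {s : Γ} {n : ℕ} (hn : (n : k) ≠ 0) (hs : s ^ n = 1)
    (hcont : ∀ l, Continuous (avg s n l)) : _root_.IsPreconnected {x : Γ | x * s = s * x} := by
  obtain ⟨l, hl⟩ : ∃ l : ℕ, (l : k) * (n : k) = 1 := by
    have hn' : (n : ZMod p) ≠ 0 := fun h => hn (by
      rw [CharP.cast_eq_zero_iff (ZMod p) p n] at h
      exact (CharP.cast_eq_zero_iff k p n).2 h)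
    refine ⟨((n : ZMod p)⁻¹).val, ?_⟩
    have := congrArg (ZMod.castHom (dvd_refl p) k) (inv_mul_cancel₀ hn')
    rw [map_mul, map_one, map_natCast] at this
    convert this using 2
    rw [ZMod.castHom_apply, ZMod.natCast_val]
  have hrange : {x : Γ | x * s = s * x} = Set.range ((avg s n l)^[N]) := by
    ext x
    refine ⟨fun hx => ⟨x, ?_⟩, ?_⟩
    · exact Function.iterate_fixed (avg_of_commute hx n l) N
    · rintro ⟨y, rfl⟩
      exact Φ.iterate_avg_commute hup hs hl y
  rw [hrange]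
  exact _root_.isPreconnected_range ((hcont l).iterate N)

/-- In characteristic zero a unipotent element lies in the identity component. -/
theorem mem_identityComponent_of_unipotent [CharZero k] (hup : ∀ x, Φ.ρ x ∈ fil k N 0) {u : Γ}
    (hu : u ∈ Φ.unipotent hup 1) : u ∈ Φ.identityComponent := by
  have := Φ.finiteIndex_identityComponent
  have := Φ.normal_identityComponent
  have hj : (Φ.identityComponent.index : k) ≠ 0 := by
    exact_mod_cast Subgroup.FiniteIndex.index_ne_zero (H := Φ.identityComponent)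
  obtain ⟨r, -, hr⟩ := exists_root Φ hup le_rfl hj hu
  rw [← hr]
  exact Subgroup.pow_index_mem _ r

end Rep

end Groth.Agent.Borel50.Lin
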