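import Mathlib
import Groth.Agent.LieKolchin.Basic

/-!
# Groups of points of linear algebraic groups, abstractly

A group with a Noetherian topology and a faithful matrix representation whose zero loci are the closed sets.
-/

set_option autoImplicit false
universe u v

open MvPolynomial

noncomputable section

namespace Groth.Agent.Borel50.Lin

open Groth.Agent.LieKolchin (GoodTop)

variable {k : Type u} [Field k] {N : ℕ}

/-- The value of a polynomial at a matrix. -/
abbrev ev (f : MvPolynomial (Fin N × Fin N) k) (M : Matrix (Fin N) (Fin N) k) : k :=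
  eval (fun p => M p.1 p.2) f

/-- A faithful representation inducing the Zariski topology. -/
structure Rep (k : Type u) [Field k] (Γ : Type v) [Group Γ] [TopologicalSpace Γ] (N : ℕ) where
  /-- The representation. -/
  ρ : Γ →* Matrix (Fin N) (Fin N) k
  inj : Function.Injective ρ
  good : GoodTop Γ
  noeth : TopologicalSpace.NoetherianSpace Γ
  spec : ∀ (S : Set Γ) (M : Matrix (Fin N) (Fin N) k),
    (∀ f : MvPolynomial (Fin N × Fin N) k, (∀ s ∈ S, ev f (ρ s) = 0) → ev f M = 0) ↔ ∃ x ∈ closure S, ρ x = M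

variable {Γ : Type v} [Group Γ] [TopologicalSpace Γ] (Φ : Rep k Γ N)

/-- Substitution of matrix-valued linear forms. -/
lemma ev_bind (g : Fin N × Fin N → MvPolynomial (Fin N × Fin N) k) (f : MvPolynomial (Fin N × Fin N) k)
    (M M' : Matrix (Fin N) (Fin N) k) (h : ∀ i j, ev (g (i, j)) M = M' i j) :
    ev (bind₁ g f) M = ev f M' := by
  have e : (fun p => eval₂Hom (RingHom.id k) (fun q : Fin N × Fin N => M q.1 q.2) (g p)) =
      fun p : Fin N × Fin N => M' p.1 p.2 := funext fun p => h p.1 p.2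
  exact (MvPolynomial.eval₂Hom_bind₁ (RingHom.id k) (fun q : Fin N × Fin N => M q.1 q.2) g f).trans
    (congrArg (fun v => eval₂Hom (RingHom.id k) v f) e)

/-- The polynomials giving `P * X * Q`. -/
def sandwich (P Q : Matrix (Fin N) (Fin N) k) (p : Fin N × Fin N) : MvPolynomial (Fin N × Fin N) k :=
  ∑ a, ∑ b, C (P p.1 a * Q b p.2) * X (a, b)

lemma ev_sandwich (P Q M : Matrix (Fin N) (Fin N) k) (i j : Fin N) :
    ev (sandwich P Q (i, j)) M = (P * M * Q) i j := by
  simp only [ev, sandwich, map_sum, map_mul, eval_C, eval_X, Matrix.mul_apply, Finset.sum_mul]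
  rw [Finset.sum_comm]
  exact Finset.sum_congr rfl fun b _ => Finset.sum_congr rfl fun a _ => by ring

namespace Rep

lemma ev_eq_zero_of_mem_closure {S : Set Γ} {f : MvPolynomial (Fin N × Fin N) k}
    (h : ∀ s ∈ S, ev f (Φ.ρ s) = 0) {x : Γ} (hx : x ∈ closure S) : ev f (Φ.ρ x) = 0 :=
  (Φ.spec S (Φ.ρ x)).2 ⟨x, hx, rfl⟩ f h

lemma mem_closure {S : Set Γ} {x : Γ}
    (h : ∀ f : MvPolynomial (Fin N × Fin N) k, (∀ s ∈ S, ev f (Φ.ρ s) = 0) → ev f (Φ.ρ x) = 0) :
    x ∈ closure S := by
  obtain ⟨y, hy, e⟩ := (Φ.spec S _).1 h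
  rwa [← Φ.inj e]

lemma isClosed_ev (f : MvPolynomial (Fin N × Fin N) k) : IsClosed {x | ev f (Φ.ρ x) = 0} :=
  isClosed_of_closure_subset fun _ hx => Φ.ev_eq_zero_of_mem_closure (fun _ hs => hs) hx

lemma isClosed_apply (i j : Fin N) (c : k) : IsClosed {x | Φ.ρ x i j = c} := by
  have e : {x | Φ.ρ x i j = c} = {x | ev (X (i, j) - C c) (Φ.ρ x) = 0} := by
    ext x; simp [ev, sub_eq_zero]
  rw [e]
  exact Φ.isClosed_ev _

lemma isClosed_sandwich (P Q M : Matrix (Fin N) (Fin N) k) : IsClosed {x | P * Φ.ρ x * Q = M} := by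
  have : {x | P * Φ.ρ x * Q = M} =
      ⋂ (i : Fin N) (j : Fin N), {x | ev (sandwich P Q (i, j) - C (M i j)) (Φ.ρ x) = 0} := by
    ext x
    simp only [Set.mem_iInter, Set.mem_ofPred_eq, ev, map_sub, eval_C, sub_eq_zero]
    exact ⟨fun h i j => by rw [← h]; exact ev_sandwich P Q _ i j,
      fun h => Matrix.ext fun i j => by rw [← h i j]; exact (ev_sandwich P Q _ i j).symm⟩
  rw [this]
  exact isClosed_iInter fun i => isClosed_iInter fun j => Φ.isClosed_ev _

lemma isClosed_commute (A : Matrix (Fin N) (Fin N) k) : IsClosed {x | Φ.ρ x * A = A * Φ.ρ x} := by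
  have : {x | Φ.ρ x * A = A * Φ.ρ x} =
      ⋂ (i : Fin N) (j : Fin N), {x | ev (sandwich 1 A (i, j) - sandwich A 1 (i, j)) (Φ.ρ x) = 0} := by
    ext x
    simp only [Set.mem_iInter, Set.mem_ofPred_eq, ev, map_sub, sub_eq_zero]
    refine ⟨fun h i j => ?_, fun h => Matrix.ext fun i j => ?_⟩
    · refine (ev_sandwich 1 A _ i j).trans (Eq.trans ?_ (ev_sandwich A 1 _ i j).symm)
      rw [_root_.one_mul, _root_.mul_one, h]
    · have := (ev_sandwich 1 A _ i j).symm.trans ((h i j).trans (ev_sandwich A 1 _ i j))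
      rwa [_root_.one_mul, _root_.mul_one] at this
  rw [this]
  exact isClosed_iInter fun i => isClosed_iInter fun j => Φ.isClosed_ev _

include Φ in
/-- A singleton is closed. -/
lemma isClosed_singleton (a : Γ) : IsClosed ({a} : Set Γ) := by
  have : ({a} : Set Γ) = {x | 1 * Φ.ρ x * 1 = Φ.ρ a} := by
    ext x
    simp only [Set.mem_singleton_iff, Set.mem_ofPred_eq, _root_.one_mul, _root_.mul_one]
    exact ⟨fun h => by rw [h], fun h => Φ.inj h⟩
  rw [this]
  exact Φ.isClosed_sandwich _ _ _

include Φ in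
/-- The centraliser of a set is closed. -/
lemma isClosed_centralizer (S : Set Γ) : IsClosed (Subgroup.centralizer S : Set Γ) := by
  have : (Subgroup.centralizer S : Set Γ) = ⋂ s ∈ S, {x | Φ.ρ x * Φ.ρ s = Φ.ρ s * Φ.ρ x} := by
    ext x
    simp only [SetLike.mem_coe, Subgroup.mem_centralizer_iff, Set.mem_iInter, Set.mem_ofPred_eq, ← map_mul]
    exact ⟨fun h s hs => by rw [h s hs], fun h s hs => (Φ.inj (h s hs)).symm⟩
  rw [this]
  exact isClosed_biInter fun s _ => Φ.isClosed_commute _

/-- Restriction to a closed subgroup. -/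
def restrict (H : Subgroup Γ) (hH : IsClosed (H : Set Γ)) : Rep k H N where
  ρ := Φ.ρ.comp H.subtype
  inj := Φ.inj.comp Subtype.val_injective
  good := Φ.good.subgroup H
  noeth := have := Φ.noeth; inferInstanceAs (TopologicalSpace.NoetherianSpace (H : Set Γ))
  spec := fun S M => by
    have hev : ∀ f, (∀ s ∈ S, ev f ((Φ.ρ.comp H.subtype) s) = 0) ↔
        ∀ x ∈ (Subtype.val '' S : Set Γ), ev f (Φ.ρ x) = 0 := fun f =>
      ⟨by rintro h _ ⟨s, hs, rfl⟩; exact h s hs, fun h s hs => h _ ⟨s, hs, rfl⟩⟩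
    simp only [hev]
    rw [Φ.spec]
    constructor
    · rintro ⟨x, hx, rfl⟩
      have hxH : x ∈ H := closure_minimal (by rintro _ ⟨s, -, rfl⟩; exact s.2) hH hx
      exact ⟨⟨x, hxH⟩, closure_subtype.2 hx, rfl⟩
    · rintro ⟨x, hx, rfl⟩
      exact ⟨x, closure_subtype.1 hx, rfl⟩

/-- Change of basis. -/
def conj (P Q : Matrix (Fin N) (Fin N) k) (hQP : Q * P = 1) : Rep k Γ N where
  ρ :=
    { toFun := fun x => P * Φ.ρ x * Q
      map_one' := by rw [map_one, _root_.mul_one]; exact mul_eq_one_comm.mp hQP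
      map_mul' := fun x y => by
        rw [map_mul]
        simp only [_root_.mul_assoc]
        rw [← _root_.mul_assoc Q P, hQP, _root_.one_mul] }
  inj := fun x y h => by
    have h' := congrArg (fun M => Q * M * P) h
    simp only [MonoidHom.coe_mk, OneHom.coe_mk, ← _root_.mul_assoc, hQP, _root_.one_mul] at h'
    simp only [_root_.mul_assoc, hQP, _root_.mul_one] at h'
    exact Φ.inj h'
  good := Φ.good
  noeth := Φ.noeth
  spec := fun S M => by
    have hPQ : P * Q = 1 := mul_eq_one_comm.mp hQP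
    constructor
    · intro h
      obtain ⟨x, hx, e⟩ := (Φ.spec S (Q * M * P)).1 fun f hf => by
        have e := h (bind₁ (sandwich Q P) f) fun s hs => by
          rw [ev_bind _ _ _ (Φ.ρ s) fun i j => by
            rw [ev_sandwich]; simp only [MonoidHom.coe_mk, OneHom.coe_mk, ← _root_.mul_assoc, hQP, _root_.one_mul]
            simp only [_root_.mul_assoc, hQP, _root_.mul_one]]
          exact hf s hs
        rwa [ev_bind _ _ _ (Q * M * P) fun i j => ev_sandwich _ _ _ i j] at e
      refine ⟨x, hx, ?_⟩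
      show P * Φ.ρ x * Q = M
      rw [e, ← _root_.mul_assoc, ← _root_.mul_assoc, hPQ, _root_.one_mul, _root_.mul_assoc, hPQ, _root_.mul_one]
    · rintro ⟨x, hx, rfl⟩ f hf
      have e := Φ.ev_eq_zero_of_mem_closure (f := bind₁ (sandwich P Q) f) (fun s hs => by
        rw [ev_bind _ _ _ (P * Φ.ρ s * Q) fun i j => ev_sandwich _ _ _ i j]; exact hf s hs) hx
      rwa [ev_bind _ _ _ (P * Φ.ρ x * Q) fun i j => ev_sandwich _ _ _ i j] at e

@[simp] lemma restrict_ρ (H : Subgroup Γ) (hH : IsClosed (H : Set Γ)) (x : H) :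
    (Φ.restrict H hH).ρ x = Φ.ρ x := rfl

@[simp] lemma conj_ρ (P Q : Matrix (Fin N) (Fin N) k) (hQP : Q * P = 1) (x : Γ) :
    (Φ.conj P Q hQP).ρ x = P * Φ.ρ x * Q := rfl

include Φ in
lemma continuous_mul_right (a : Γ) : Continuous fun x : Γ => x * a := by
  have h : (fun x : Γ => x * a) = fun x => (a⁻¹ * x⁻¹)⁻¹ := funext fun x => by simp
  rw [h]
  exact Φ.good.inv.comp ((Φ.good.left a⁻¹).comp Φ.good.inv)

/-- The left translation as a homeomorphism. -/
def translate (a : Γ) : Γ ≃ₜ Γ where
  toEquiv := Equiv.mulLeft a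
  continuous_toFun := Φ.good.left a
  continuous_invFun := Φ.good.left a⁻¹

include Φ in
/-- A preconnected group of this kind is irreducible. -/
theorem irreducibleSpace [PreconnectedSpace Γ] : IrreducibleSpace Γ := by
  classical
  have := Φ.noeth
  have hfin := TopologicalSpace.NoetherianSpace.finite_irreducibleComponents (α := Γ)
  have hmap : ∀ (a : Γ), ∀ C ∈ irreducibleComponents Γ, Φ.translate a '' C ∈ irreducibleComponents Γ := by
    intro a C hC
    refine ⟨hC.1.image _ (Φ.translate a).continuous.continuousOn, fun D hD hle => ?_⟩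
    have h2 := hC.2 (hD.image _ (Φ.translate a).symm.continuous.continuousOn) fun x hx =>
      ⟨Φ.translate a x, hle ⟨x, hx, rfl⟩, (Φ.translate a).symm_apply_apply x⟩
    intro y hy
    exact ⟨(Φ.translate a).symm y, h2 ⟨y, hy, rfl⟩, (Φ.translate a).apply_symm_apply y⟩
  let C := irreducibleComponent (1 : Γ)
  have hC : C ∈ irreducibleComponents Γ := irreducibleComponent_mem_irreducibleComponents 1
  -- a point lying in one component only
  obtain ⟨x₀, hx₀, hx₀'⟩ : ∃ x ∈ C, ∀ D ∈ irreducibleComponents Γ, x ∈ D → D = C := by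
    by_contra hne
    push Not at hne
    have hsub : C ⊆ ⋃₀ (irreducibleComponents Γ \ {C}) := fun x hx => by
      obtain ⟨D, hD, hxD, hDC⟩ := hne x hx
      exact ⟨D, ⟨hD, hDC⟩, hxD⟩
    obtain ⟨D, hD, hCD⟩ := (isIrreducible_iff_sUnion_isClosed.1 hC.1) (hfin.sdiff (t := {C})).toFinset
      (fun D hD => isClosed_of_mem_irreducibleComponents D ((Set.Finite.mem_toFinset _).1 hD).1)
      (by rwa [Set.Finite.coe_toFinset])
    have hD' := (Set.Finite.mem_toFinset _).1 hD
    exact hD'.2 (Set.Subset.antisymm (hC.2 hD'.1.1 hCD) hCD)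
  have huniq : ∀ x, ∀ D ∈ irreducibleComponents Γ, ∀ D' ∈ irreducibleComponents Γ, x ∈ D → x ∈ D' → D = D' := by
    intro x D hD D' hD' hx hx'
    have e : ∀ W ∈ irreducibleComponents Γ, x ∈ W → Φ.translate (x₀ * x⁻¹) '' W = C := fun W hE hxE =>
      hx₀' _ (hmap _ W hE) ⟨x, hxE, by simp [translate]⟩
    exact (Φ.translate (x₀ * x⁻¹)).injective.image_injective ((e D hD hx).trans (e D' hD' hx').symm)
  have hcompl : IsClosed Cᶜ := by
    have : Cᶜ = ⋃₀ (irreducibleComponents Γ \ {C}) := by
      ext x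
      refine ⟨fun hx => ⟨irreducibleComponent x, ⟨irreducibleComponent_mem_irreducibleComponents x,
        fun e => hx (e ▸ mem_irreducibleComponent)⟩, mem_irreducibleComponent⟩, ?_⟩
      rintro ⟨D, hD, hxD⟩ hxC
      exact hD.2 (huniq x D hD.1 C hC hxD hxC)
    rw [this, Set.sUnion_eq_biUnion]
    exact (hfin.sdiff (t := {C})).isClosed_biUnion fun D hD => isClosed_of_mem_irreducibleComponents D hD.1
  have huniv : C = Set.univ := IsClopen.eq_univ ⟨isClosed_irreducibleComponent,
    isClosed_compl_iff.1 hcompl⟩ ⟨x₀, hx₀⟩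
  exact { toPreirreducibleSpace := ⟨huniv ▸ hC.1.2⟩, toNonempty := ⟨1⟩ }

include Φ in
/-- A closed subgroup of finite index of a connected group is everything. -/
theorem eq_top_of_finiteIndex [PreconnectedSpace Γ] (H : Subgroup Γ) (hH : IsClosed (H : Set Γ)) [H.FiniteIndex] :
    H = ⊤ := by
  classical
  have hcompl : IsClosed (H : Set Γ)ᶜ := by
    have : (H : Set Γ)ᶜ = ⋃ q ∈ ({q | q ≠ ((1 : Γ) : Γ ⧸ H)} : Set (Γ ⧸ H)),
        (fun x => q.out⁻¹ * x) ⁻¹' (H : Set Γ) := by
      ext x
      simp only [Set.mem_compl_iff, SetLike.mem_coe, Set.mem_iUnion, Set.mem_preimage, exists_prop, Set.mem_ofPred_eq]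
      constructor
      · intro hx
        refine ⟨(x : Γ ⧸ H), fun e => hx ?_, QuotientGroup.eq.1 (QuotientGroup.out_eq' _)⟩
        rw [eq_comm, QuotientGroup.eq, inv_one, _root_.one_mul] at e
        exact e
      · rintro ⟨q, hq, hx⟩ hxH
        refine hq ?_
        rw [← QuotientGroup.out_eq' q, eq_comm, QuotientGroup.eq, inv_one, _root_.one_mul]
        have : q.out⁻¹ ∈ H := by simpa using H.mul_mem hx (H.inv_mem hxH)
        simpa using H.inv_mem this
    rw [this]
    exact (Set.toFinite _).isClosed_biUnion fun q _ => hH.preimage (Φ.good.left _)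
  have := IsClopen.eq_univ ⟨hH, isClosed_compl_iff.1 hcompl⟩ ⟨1, H.one_mem⟩
  exact SetLike.coe_injective this

/-- The identity component. -/
def identityComponent : Subgroup Γ where
  carrier := connectedComponent 1
  one_mem' := mem_connectedComponent
  mul_mem' := fun {a b} ha hb => by
    have h := (Φ.good.left a).image_connectedComponent_subset (1 : Γ) ⟨b, hb, rfl⟩
    rw [_root_.mul_one] at h
    rwa [connectedComponent_eq ha]
  inv_mem' := fun {a} ha => by
    have h := Φ.good.inv.image_connectedComponent_subset (1 : Γ) ⟨a, ha, rfl⟩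
    rwa [inv_one] at h

lemma isClosed_identityComponent : IsClosed (Φ.identityComponent : Set Γ) := isClosed_connectedComponent

lemma preconnectedSpace_identityComponent : PreconnectedSpace Φ.identityComponent :=
  Subtype.preconnectedSpace (isPreconnected_connectedComponent)

/-- The identity component has finite index. -/
theorem finiteIndex_identityComponent : Φ.identityComponent.FiniteIndex := by
  classical
  have := Φ.noeth
  have : Finite (irreducibleComponents Γ) := (TopologicalSpace.NoetherianSpace.finite_irreducibleComponents (α := Γ)).to_subtype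
  choose f hf using fun C : irreducibleComponents Γ => C.2.1.1
  have hsurj : Function.Surjective fun C : irreducibleComponents Γ => ((f C : Γ) : Γ ⧸ Φ.identityComponent) := by
    intro q
    obtain ⟨x, rfl⟩ := QuotientGroup.mk_surjective q
    refine ⟨⟨irreducibleComponent x, irreducibleComponent_mem_irreducibleComponents x⟩, QuotientGroup.eq.2 ?_⟩
    set y := f ⟨irreducibleComponent x, _⟩ with hy
    have h1 : y ∈ irreducibleComponent x := hf ⟨irreducibleComponent x, irreducibleComponent_mem_irreducibleComponents x⟩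
    have h2 := (IsIrreducible.isConnected (isIrreducible_irreducibleComponent (x := x)) |>.isPreconnected).image _ (Φ.good.left y⁻¹).continuousOn
    exact h2.subset_connectedComponent (x := (1 : Γ)) ⟨y, h1, by simp⟩ ⟨x, mem_irreducibleComponent, rfl⟩
  have : Finite (Γ ⧸ Φ.identityComponent) := Finite.of_surjective _ hsurj
  exact Subgroup.finiteIndex_of_finite_quotient

include Φ in
/-- The closure of a subgroup is a subgroup. -/
theorem exists_closure_subgroup (H : Subgroup Γ) : ∃ K : Subgroup Γ, (K : Set Γ) = closure (H : Set Γ) := by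
  refine ⟨{ carrier := closure (H : Set Γ), one_mem' := subset_closure H.one_mem, mul_mem' := ?_, inv_mem' := ?_ }, rfl⟩
  · intro a b ha hb
    have h1 : ∀ s ∈ H, a * s ∈ closure (H : Set Γ) := fun s hs =>
      map_mem_closure (f := fun x => x * s) (continuous_mul_right Φ s) ha fun t ht => H.mul_mem ht hs
    rw [← closure_closure (s := (H : Set Γ))]
    exact map_mem_closure (Φ.good.left a) hb fun t ht => h1 t ht
  · intro a ha
    exact map_mem_closure Φ.good.inv ha fun t ht => H.inv_mem ht

end Rep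

end Groth.Agent.Borel50.Lin
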