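import Groth.Agent.Borel50.Lin.Unip
import Groth.Agent.S9651

/-!
# The diagonal of a connected triangular group: torsion points separate characters
-/

set_option autoImplicit false
universe u v

open MvPolynomial

noncomputable section

namespace Groth.Agent.Borel50.Lin

variable {k : Type u} [Field k] {N : ℕ}

/-- A commuting family of matrices killed by squarefree polynomials is simultaneously diagonalisable. -/
theorem exists_diagonalize [IsAlgClosed k] (S : Set (Matrix (Fin N) (Fin N) k))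
    (hcomm : ∀ A ∈ S, ∀ B ∈ S, A * B = B * A)
    (hss : ∀ A ∈ S, ∃ p : Polynomial k, Squarefree p ∧ Polynomial.aeval A p = 0) :
    ∃ P Q : Matrix (Fin N) (Fin N) k, Q * P = 1 ∧ ∀ A ∈ S, (P * A * Q).IsDiag := by
  classical
  let f : S → Module.End k (Fin N → k) := fun A => Matrix.toLinAlgEquiv' A.1
  have hsemi : ∀ A, (f A).IsSemisimple := fun A => by
    obtain ⟨p, hp, hpA⟩ := hss A.1 A.2
    refine Module.End.isSemisimple_of_squarefree_aeval_eq_zero hp ?_
    show Polynomial.aeval ((Matrix.toLinAlgEquiv' : Matrix (Fin N) (Fin N) k ≃ₐ[k] _).toAlgHom A.1) p = 0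
    rw [Polynomial.aeval_algHom_apply, hpA, map_zero]
  have heig : ∀ A μ, (f A).maxGenEigenspace μ = (f A).eigenspace μ := fun A μ =>
    (Module.End.isFinitelySemisimple_iff_isSemisimple.2 (hsemi A)).maxGenEigenspace_eq_eigenspace μ
  have htop : ⨆ χ : S → k, ⨅ A, (f A).maxGenEigenspace (χ A) = ⊤ :=
    Module.End.iSup_iInf_maxGenEigenspace_eq_top_of_iSup_maxGenEigenspace_eq_top_of_commute f
      (fun A B _ => by
        show Commute _ _
        exact (show Commute A.1 B.1 from hcomm _ A.2 _ B.2).map (Matrix.toLinAlgEquiv' : Matrix (Fin N) (Fin N) k ≃ₐ[k] _))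
      fun A => Module.End.iSup_maxGenEigenspace_eq_top (f A)
  let E : Set (Fin N → k) := {v | ∀ A : S, ∃ μ : k, f A v = μ • v}
  have hspan : Submodule.span k E = ⊤ := by
    refine eq_top_iff.2 (htop.symm.le.trans (iSup_le fun χ v hv => Submodule.subset_span fun A => ⟨χ A, ?_⟩))
    have := (Submodule.mem_iInf _).1 hv A
    rw [heig] at this
    exact Module.End.mem_eigenspace_iff.1 this
  obtain ⟨b, hbE, hbspan, hbli⟩ := exists_linearIndependent k E
  let β₀ : Module.Basis b k (Fin N → k) := Module.Basis.mk hbli (by rw [Subtype.range_coe, hbspan, hspan])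
  have : Finite b := β₀.linearIndependent.finite
  let e : b ≃ Fin N := (β₀.indexEquiv (Pi.basisFun k (Fin N)))
  let β := β₀.reindex e
  refine ⟨β.toMatrix (Pi.basisFun k (Fin N)), (Pi.basisFun k (Fin N)).toMatrix β,
    (Pi.basisFun k (Fin N)).toMatrix_mul_toMatrix_flip β, fun A hA => ?_⟩
  have h1 : LinearMap.toMatrix (Pi.basisFun k (Fin N)) (Pi.basisFun k (Fin N)) (f ⟨A, hA⟩) = A := by
    rw [LinearMap.toMatrix_eq_toMatrix']
    exact LinearMap.toMatrix'_toLin' A
  conv => arg 1; arg 1; arg 2; rw [← h1]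
  rw [basis_toMatrix_mul_linearMap_toMatrix_mul_basis_toMatrix]
  intro i j hij
  obtain ⟨μ, hμ⟩ : ∃ μ : k, f ⟨A, hA⟩ (β j) = μ • β j := by
    have hj : β j ∈ E := hbE (by simp [β, β₀])
    exact hj ⟨A, hA⟩
  rw [LinearMap.toMatrix_apply, hμ, map_smul, Module.Basis.repr_self]
  simp [Finsupp.single_apply, hij.symm]

/-- Diagonalisable matrices are killed by squarefree polynomials. -/
theorem exists_squarefree_of_isDiag {A P Q : Matrix (Fin N) (Fin N) k} (hQP : Q * P = 1) (h : (P * A * Q).IsDiag) :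
    ∃ p : Polynomial k, Squarefree p ∧ Polynomial.aeval A p = 0 := by
  classical
  have hPQ : P * Q = 1 := mul_eq_one_comm.mp hQP
  let D := P * A * Q
  let s : Finset k := Finset.univ.image fun i => D i i
  refine ⟨∏ c ∈ s, (Polynomial.X - Polynomial.C c),
    (Polynomial.separable_prod_X_sub_C_iff'.2 fun x _ y _ e => e).squarefree, ?_⟩
  let φ : Matrix (Fin N) (Fin N) k →ₐ[k] Matrix (Fin N) (Fin N) k :=
    { toFun := fun M => Q * M * P
      map_one' := by rw [_root_.mul_one, hQP]
      map_mul' := fun X Y => by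
        simp only [_root_.mul_assoc]
        rw [← _root_.mul_assoc P Q, hPQ, _root_.one_mul]
      map_zero' := by simp
      map_add' := fun X Y => by rw [_root_.mul_add, _root_.add_mul]
      commutes' := fun r => by
        rw [Algebra.algebraMap_eq_smul_one, Matrix.mul_smul, _root_.mul_one, Matrix.smul_mul, hQP] }
  have hA : φ D = A := by
    show Q * (P * A * Q) * P = A
    simp only [_root_.mul_assoc, hQP, _root_.mul_one]
    rw [← _root_.mul_assoc, hQP, _root_.one_mul]
  rw [← hA, Polynomial.aeval_algHom_apply]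
  have hD : D = Matrix.diagonal (Matrix.diag D) := h.diagonal_diag.symm
  have : Polynomial.aeval D (∏ c ∈ s, (Polynomial.X - Polynomial.C c)) = 0 := by
    rw [hD, show Matrix.diagonal (Matrix.diag D) = Matrix.diagonalAlgHom k (Matrix.diag D) from rfl,
      Polynomial.aeval_algHom_apply]
    have : Polynomial.aeval (Matrix.diag D) (∏ c ∈ s, (Polynomial.X - Polynomial.C c)) = 0 := by
      funext i
      rw [Polynomial.aeval_pi_apply, Pi.zero_apply]
      simp only [map_prod]
      exact Finset.prod_eq_zero (Finset.mem_image_of_mem _ (Finset.mem_univ i)) (by simp [Matrix.diag])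
    rw [this, map_zero]
  rw [this, map_zero]

variable {Γ : Type v} [Group Γ] [TopologicalSpace Γ] (Φ : Rep k Γ N)

lemma diag_mul_of_upper {A B : Matrix (Fin N) (Fin N) k} (hA : A ∈ fil k N 0) (hB : B ∈ fil k N 0) (i : Fin N) :
    (A * B) i i = A i i * B i i := by
  rw [Matrix.mul_apply, Finset.sum_eq_single i]
  · intro q _ hq
    rcases lt_or_gt_of_ne hq with h | h
    · rw [hA i q (by simpa using h), zero_mul]
    · rw [hB q i (by simpa using h), mul_zero]
  · exact fun h => absurd (Finset.mem_univ i) h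

lemma prod_zpow_eq {G : Type*} [CommGroup G] {ι : Type*} (c : G) (s : Finset ι) (g : ι → ℤ) :
    ∏ i ∈ s, c ^ g i = c ^ ∑ i ∈ s, g i := by
  induction s using Finset.cons_induction with
  | empty => simp
  | cons a s h ih => rw [Finset.prod_cons, Finset.sum_cons, zpow_add, ih]

/-- The diagonal of a triangular group. -/
def Rep.diagHom (hup : ∀ x, Φ.ρ x ∈ fil k N 0) : Γ →* (Fin N → k) where
  toFun x i := Φ.ρ x i i
  map_one' := funext fun i => by simp
  map_mul' x y := funext fun i => by rw [map_mul]; exact diag_mul_of_upper (hup x) (hup y) i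

/-- An element with trivial diagonal is unipotent. -/
lemma Rep.mem_unipotent_of_diag {hup : ∀ x, Φ.ρ x ∈ fil k N 0} {x : Γ} (h : Φ.diagHom hup x = 1) :
    x ∈ Φ.unipotent hup 1 := fun i j hij => by
  rcases eq_or_ne i j with e | e
  · subst e
    have := congrFun h i
    simp only [Rep.diagHom, MonoidHom.coe_mk, OneHom.coe_mk, Pi.one_apply] at this
    simp [this]
  · rw [Matrix.sub_apply, Matrix.one_apply_ne e, sub_zero]
    have : (j : ℕ) ≠ i := fun h => e (Fin.ext h.symm)
    exact hup x i j (by omega)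

lemma Rep.diag_of_mem_unipotent {hup : ∀ x, Φ.ρ x ∈ fil k N 0} {x : Γ} (h : x ∈ Φ.unipotent hup 1) :
    Φ.diagHom hup x = 1 := funext fun i => by
  have := h i i (by omega)
  simpa [Rep.diagHom, sub_eq_zero] using this

variable [IsAlgClosed k] [PreconnectedSpace Γ]
/-- The diagonal of a connected triangular group is cut out by a saturated lattice of characters. -/
theorem exists_lattice (hup : ∀ x, Φ.ρ x ∈ fil k N 0) : ∃ L : Submodule ℤ (Fin N → ℤ),
    (∀ (j : ℤ) l, j ≠ 0 → j • l ∈ L → l ∈ L) ∧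
    (∀ l, l ∈ L ↔ ∀ x, ∏ i, Φ.diagHom hup x i ^ l i = 1) ∧
    ∀ t : Fin N → kˣ, (∀ l ∈ L, ∏ i, t i ^ l i = 1) → ∃ x, ∀ i, Φ.diagHom hup x i = t i := by
  classical
  have := Φ.irreducibleSpace
  let δ : Γ →* (Fin N → kˣ) :=
    { toFun := fun x i => ((Pi.evalMonoidHom (fun _ => k) i).comp (Φ.diagHom hup)).toHomUnits x
      map_one' := funext fun i => map_one _
      map_mul' := fun x y => funext fun i => map_mul _ x y }
  have hδ : ∀ x i, (δ x i : k) = Φ.diagHom hup x i := fun x i => rfl
  let χ : (Fin N → ℤ) → (Fin N → kˣ) → kˣ := fun l t => ∏ i, t i ^ l i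
  have hχmul : ∀ l t t', χ l (t * t') = χ l t * χ l t' := fun l t t' => by
    simp [χ, mul_zpow, Finset.prod_mul_distrib]
  have hχadd : ∀ l l' t, χ (l + l') t = χ l t * χ l' t := fun l l' t => by
    simp [χ, zpow_add, Finset.prod_mul_distrib]
  have hχsmul : ∀ (j : ℤ) l t, χ (j • l) t = χ l t ^ j := fun j l t => by
    simp [χ, ← Finset.prod_zpow, ← zpow_mul, mul_comm j]
  have hcoe : ∀ l x, ((χ l (δ x) : kˣ) : k) = ∏ i, Φ.diagHom hup x i ^ l i := fun l x => by
    simp [χ, Units.coe_prod, hδ]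
  let L : Submodule ℤ (Fin N → ℤ) :=
    { carrier := {l | ∀ x, χ l (δ x) = 1}
      zero_mem' := fun x => by simp [χ]
      add_mem' := fun {a b} ha hb x => by rw [hχadd, ha x, hb x, one_mul]
      smul_mem' := fun j a ha x => by rw [hχsmul, ha x, one_zpow] }
  -- monomials
  let mono : (Fin N →₀ ℕ) → MvPolynomial (Fin N) k := fun a => monomial a 1
  let cl : (Fin N →₀ ℕ) → ((Fin N → ℤ) ⧸ L) := fun a => L.mkQ fun i => (a i : ℤ)
  have hmono : ∀ (a : Fin N →₀ ℕ) (t : Fin N → kˣ),
      eval (fun i => (t i : k)) (mono a) = (χ (fun i => (a i : ℤ)) t : k) := fun a t => by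
    simp [mono, χ, eval_monomial, Finsupp.prod_fintype, Units.coe_prod]
  let T : (Fin N → kˣ) → Prop := fun t => ∀ l ∈ L, χ l t = 1
  have hTδ : ∀ x, T (δ x) := fun x l hl => hl x
  -- saturation
  have hsat : ∀ (j : ℤ) l, j ≠ 0 → j • l ∈ L → l ∈ L := by
    intro j l hj hl
    have hfin : (Set.range fun x : Γ => (χ l (δ x) : k)).Finite := by
      refine ((Polynomial.finite_setOf_isRoot (p := (Polynomial.X ^ j.natAbs - 1 : Polynomial k)) ?_).subset ?_)
      · exact (Polynomial.monic_X_pow_sub_C (1 : k) (Int.natAbs_ne_zero.2 hj)).ne_zero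
      · rintro _ ⟨x, rfl⟩
        have := hl x
        rw [hχsmul] at this
        have h2 : χ l (δ x) ^ j.natAbs = 1 := by
          rcases Int.natAbs_eq j with e | e <;> rw [e] at this <;> simpa using this
        simp [← Units.val_pow_eq_pow_val, h2]
    let lp : Fin N →₀ ℕ := Finsupp.equivFunOnFinite.symm fun i => (l i).toNat
    let ln : Fin N →₀ ℕ := Finsupp.equivFunOnFinite.symm fun i => (-l i).toNat
    have hl' : ∀ t, χ (fun i => (lp i : ℤ)) t = χ l t * χ (fun i => (ln i : ℤ)) t := fun t => by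
      rw [← hχadd]
      congr 1
      funext i
      simp only [lp, ln, Finsupp.coe_equivFunOnFinite_symm, Pi.add_apply]
      omega
    have hcl : ∀ c : k, IsClosed {x : Γ | (χ l (δ x) : k) = c} := fun c => by
      let g : Fin N → MvPolynomial (Fin N × Fin N) k := fun i => X (i, i)
      have e : {x : Γ | (χ l (δ x) : k) = c} =
          {x | ev (aeval g (mono lp) - C c * aeval g (mono ln)) (Φ.ρ x) = 0} := by
        ext x
        have hev : ∀ a, ev (aeval g (mono a)) (Φ.ρ x) = (χ (fun i => (a i : ℤ)) (δ x) : k) := fun a => by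
          rw [← hmono]
          show eval _ (aeval g (mono a)) = _
          rw [← bind₁, eval, eval₂Hom_bind₁]
          simp [g, hδ, Rep.diagHom]
        simp only [Set.mem_ofPred_eq, ev, map_sub, map_mul, eval_C, sub_eq_zero]
        rw [show eval _ (aeval g (mono lp)) = _ from hev lp, show eval _ (aeval g (mono ln)) = _ from hev ln, hl',
          Units.val_mul]
        exact ⟨fun h => by rw [h], fun h => mul_right_cancel₀ (Units.ne_zero _) h⟩
      rw [e]
      exact Φ.isClosed_ev _
    intro x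
    have h := Groth.Agent.LieKolchin.eq_of_finite_values (fun x : Γ => (χ l (δ x) : k)) hfin hcl x 1
    simp only [map_one] at h
    exact Units.ext (h.trans (by simp [χ]))
  -- vanishing on the diagonal implies vanishing on the subgroup cut out by `L`
  have hvan : ∀ f : MvPolynomial (Fin N) k, (∀ x, eval (fun i => (δ x i : k)) f = 0) →
      ∀ t, T t → eval (fun i => (t i : k)) f = 0 := by
    intro f hf t ht
    let s := f.support.image cl
    have hwd : ∀ a b, cl a = cl b → ∀ t, T t → χ (fun i => (a i : ℤ)) t = χ (fun i => (b i : ℤ)) t := by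
      intro a b h t ht
      have h1 := ht _ ((Submodule.Quotient.eq L).1 h)
      rw [show (fun i => (a i : ℤ)) = ((fun i => (a i : ℤ)) - fun i => (b i : ℤ)) + fun i => (b i : ℤ) by simp,
        hχadd, h1, one_mul]
    let a₀ : s → (Fin N →₀ ℕ) := fun q => (Finset.mem_image.1 q.2).choose
    have ha₀ : ∀ q : s, cl (a₀ q) = q.1 := fun q => (Finset.mem_image.1 q.2).choose_spec.2
    let ψ : s → (Γ →* k) := fun q =>
      { toFun := fun x => (χ (fun i => (a₀ q i : ℤ)) (δ x) : k)
        map_one' := by simp [χ]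
        map_mul' := fun x y => by rw [map_mul, hχmul, Units.val_mul] }
    have hψ : Function.Injective ψ := fun q q' h => by
      refine Subtype.ext ?_
      rw [← ha₀ q, ← ha₀ q']
      refine (Submodule.Quotient.eq L).2 fun x => ?_
      have h1 := hχadd ((fun i => (a₀ q i : ℤ)) - fun i => (a₀ q' i : ℤ)) (fun i => (a₀ q' i : ℤ)) (δ x)
      rw [sub_add_cancel] at h1
      have h2 : χ (fun i => (a₀ q i : ℤ)) (δ x) = χ (fun i => (a₀ q' i : ℤ)) (δ x) :=
        Units.ext (DFunLike.congr_fun h x)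
      rw [h2, eq_comm, mul_eq_right] at h1
      exact h1
    let coefSum : ((Fin N → ℤ) ⧸ L) → k := fun q => ∑ a ∈ f.support.filter (fun a => cl a = q), f.coeff a
    have heval : ∀ t, T t → eval (fun i => (t i : k)) f =
        ∑ q : s, coefSum q.1 * (χ (fun i => (a₀ q i : ℤ)) t : k) := by
      intro t ht
      calc eval (fun i => (t i : k)) f = ∑ a ∈ f.support, f.coeff a * (χ (fun i => (a i : ℤ)) t : k) := by
            conv_lhs => rw [f.as_sum]
            rw [map_sum]
            refine Finset.sum_congr rfl fun a _ => ?_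
            rw [← hmono, show monomial a (f.coeff a) = C (f.coeff a) * mono a by simp [mono, C_mul_monomial],
              map_mul, eval_C]
        _ = ∑ q ∈ s, ∑ a ∈ f.support.filter (fun a => cl a = q), f.coeff a * (χ (fun i => (a i : ℤ)) t : k) :=
            (Finset.sum_fiberwise_of_maps_to (fun a ha => Finset.mem_image_of_mem cl ha) _).symm
        _ = _ := by
            rw [← Finset.sum_coe_sort s]
            refine Finset.sum_congr rfl fun q _ => ?_
            rw [Finset.sum_mul]
            refine Finset.sum_congr rfl fun a ha => ?_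
            rw [hwd a (a₀ q) ((Finset.mem_filter.1 ha).2.trans (ha₀ q).symm) t ht]
    have hli := (linearIndependent_monoidHom Γ k).comp ψ hψ
    have hzero := Fintype.linearIndependent_iff.1 hli (fun q => coefSum q.1) (funext fun x => by
      rw [Finset.sum_apply, Pi.zero_apply]
      exact ((heval _ (hTδ x)).symm.trans (hf x)))
    rw [heval t ht]
    exact Finset.sum_eq_zero fun q _ => by rw [hzero q, zero_mul]
  -- the image contains an open dense piece
  let ρv : Γ → (Fin N × Fin N → k) := fun x p => Φ.ρ x p.1 p.2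
  let I : Ideal (MvPolynomial (Fin N × Fin N) k) :=
    ⨅ x : Γ, RingHom.ker (eval (ρv x))
  have hI : ∀ f, f ∈ I ↔ ∀ x, ev f (Φ.ρ x) = 0 := fun f => by simp [I, Ideal.mem_iInf, RingHom.mem_ker, ρv]
  have hIp : I.IsPrime := by
    refine ⟨fun h => one_ne_zero (α := k) ?_, fun {f g} hfg => ?_⟩
    · have := (hI 1).1 (h ▸ Submodule.mem_top) 1
      simpa [ev] using this
    · have hu : (Set.univ : Set Γ) ⊆ {x | ev f (Φ.ρ x) = 0} ∪ {x | ev g (Φ.ρ x) = 0} := fun x _ => by
        have := (hI _).1 hfg x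
        simpa [ev] using this
      rcases isPreirreducible_iff_isClosed_union_isClosed.1 (IrreducibleSpace.isIrreducible_univ Γ).2 _ _
        (Φ.isClosed_ev f) (Φ.isClosed_ev g) hu with h | h
      · exact Or.inl ((hI f).2 fun x => h trivial)
      · exact Or.inr ((hI g).2 fun x => h trivial)
  let S := MvPolynomial (Fin N × Fin N) k ⧸ I
  let φ : MvPolynomial (Fin N) k →ₐ[k] S := (Ideal.Quotient.mkₐ k I).comp (rename fun i => (i, i))
  have hφ : ∀ f, φ f = 0 ↔ ∀ x, eval (fun i => (δ x i : k)) f = 0 := fun f => by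
    show Ideal.Quotient.mk I (rename _ f) = 0 ↔ _
    rw [Ideal.Quotient.eq_zero_iff_mem, hI]
    simp [ev, eval_rename, Function.comp_def, hδ, Rep.diagHom]
  algebraize [φ.toRingHom]
  have : IsScalarTower k (MvPolynomial (Fin N) k) S := IsScalarTower.of_algHom φ
  have : Algebra.FiniteType (MvPolynomial (Fin N) k) S := Algebra.FiniteType.of_restrictScalars_finiteType k _ _
  let ξ : PrimeSpectrum (MvPolynomial (Fin N) k) := PrimeSpectrum.comap (algebraMap _ S) ⟨⊥, Ideal.isPrime_bot⟩
  obtain ⟨U, hU, hξU, hUsub⟩ := Groth.Agent.S9651.result (R := MvPolynomial (Fin N) k) (S := S) Set.univ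
    (by exact Topology.IsConstructible.univ) ξ ⟨_, trivial, rfl⟩
  have hξ : ξ ∈ U := by
    obtain ⟨z, hzU, hz⟩ : (U ∩ closure {ξ}).Nonempty := by
      by_contra he
      rw [Set.not_nonempty_iff_eq_empty] at he
      rw [he, closure_empty] at hξU
      exact hξU (subset_closure rfl)
    obtain ⟨y, hy, rfl⟩ := mem_closure_iff.1 hz U hU hzU
    exact hy
  obtain ⟨_, ⟨f, rfl⟩, hξf, hfU⟩ := PrimeSpectrum.isTopologicalBasis_basic_opens.exists_subset_of_mem_open hξ hU
  have hf0 : φ f ≠ 0 := fun h => hξf (by show φ f ∈ (⊥ : Ideal S); rw [h]; exact Ideal.zero_mem _)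
  have hlift : ∀ y : Fin N → k, (∀ g, φ g = 0 → eval y g = 0) → eval y f ≠ 0 →
      ∃ x, (fun i => (δ x i : k)) = y := by
    intro y hy hyf
    let py : PrimeSpectrum (MvPolynomial (Fin N) k) := ⟨RingHom.ker (eval y), RingHom.ker_isPrime _⟩
    have hcl : py ∈ closure {ξ} := by
      rw [← PrimeSpectrum.le_iff_mem_closure]
      intro g hg
      exact hy g hg
    obtain ⟨P, -, hP⟩ := hUsub ⟨hfU hyf, hcl⟩
    obtain ⟨M, hM, hPM⟩ := Ideal.exists_le_maximal P.asIdeal P.isPrime.ne_top
    have hMy : RingHom.ker (eval y) = M.comap φ.toRingHom := by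
      refine (RingHom.ker_isMaximal_of_surjective (eval y) fun c => ⟨C c, eval_C c⟩).eq_of_le
        (Ideal.comap_ne_top _ hM.ne_top) ?_
      intro g hg
      have : g ∈ P.asIdeal.comap (algebraMap _ S) := by
        have e := congrArg PrimeSpectrum.asIdeal hP
        rw [PrimeSpectrum.comap_asIdeal] at e
        rw [e]; exact hg
      exact hPM this
    obtain ⟨z, hz⟩ := MvPolynomial.isMaximal_iff_eq_vanishingIdeal_singleton.1
      (Ideal.comap_isMaximal_of_surjective (Ideal.Quotient.mk I) Ideal.Quotient.mk_surjective (K := M))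
    have hzv : ∀ g, Ideal.Quotient.mk I g ∈ M ↔ eval z g = 0 := fun g => by
      rw [← Ideal.mem_comap, hz]
      simp [mem_vanishingIdeal_iff, aeval_eq_eval]
    obtain ⟨x, -, hx⟩ := (Φ.spec Set.univ (fun i j => z (i, j))).1 fun g hg => by
      have : Ideal.Quotient.mk I g = 0 := Ideal.Quotient.eq_zero_iff_mem.2 ((hI g).2 fun x => hg x trivial)
      exact (hzv g).1 (this ▸ M.zero_mem)
    refine ⟨x, funext fun i => ?_⟩
    have h0 : X i - C (y i) ∈ RingHom.ker (eval y) := by simp [RingHom.mem_ker]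
    rw [hMy, Ideal.mem_comap] at h0
    have h1 := (hzv _).1 (show Ideal.Quotient.mk I (rename (fun i => (i, i)) (X i - C (y i))) ∈ M from h0)
    simp [sub_eq_zero] at h1
    rw [← h1, hδ]
    exact (congrFun (congrFun hx i) i)
  -- every point of the subgroup cut out by `L` is in the image
  have himage : ∀ t, T t → ∃ x, δ x = t := by
    intro t ht
    let f' : MvPolynomial (Fin N) k := aeval (fun i => C (t i : k) * X i) f
    have hf' : ∀ y : Fin N → k, eval y f' = eval (fun i => (t i : k) * y i) f := fun y => by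
      show eval y (bind₁ (fun i => C (t i : k) * X i) f) = _
      rw [eval, eval₂Hom_bind₁]
      simp
    have hf'0 : φ f' ≠ 0 := by
      intro h
      refine hf0 ((hφ f).2 fun x => ?_)
      have h1 := hvan f' ((hφ f').1 h) (t⁻¹ * δ x) fun l hl => by
        rw [hχmul, hTδ x l hl, mul_one]
        have := hχmul l t⁻¹ t
        rw [inv_mul_cancel, ht l hl, mul_one] at this
        simpa [χ] using this.symm
      rw [hf'] at h1
      simpa using h1
    obtain ⟨x, hx⟩ : ∃ x, eval (fun i => (δ x i : k)) (f * f') ≠ 0 := by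
      by_contra hne
      push Not at hne
      have h2 := (hφ _).2 hne
      rw [map_mul] at h2
      exact (mul_eq_zero.1 h2).elim hf0 hf'0
    rw [map_mul, mul_ne_zero_iff, hf'] at hx
    have hTtx : T (t * δ x) := fun l hl => by rw [hχmul, ht l hl, hTδ x l hl, mul_one]
    obtain ⟨x', hx'⟩ := hlift (fun i => ((t * δ x) i : k))
      (fun g hg => hvan g ((hφ g).1 hg) _ hTtx) (by simpa using hx.2)
    refine ⟨x' * x⁻¹, ?_⟩
    rw [map_mul, map_inv, show δ x' = t * δ x from funext fun i => Units.ext (congrFun hx' i), mul_inv_cancel_right]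
  refine ⟨L, hsat, fun l => ⟨fun hl x => by rw [← hcoe, hl x, Units.val_one],
    fun hl x => Units.ext ((hcoe l x).trans (hl x))⟩, fun t ht => ?_⟩
  obtain ⟨x, hx⟩ := himage t ht
  exact ⟨x, fun i => by rw [← hδ, hx]⟩

/-- Torsion elements of order prime to the characteristic separate the diagonal characters. -/
theorem torsion_separates (hup : ∀ x, Φ.ρ x ∈ fil k N 0) (m : Fin N → ℤ)
    (hm : ∃ x, ∏ i, Φ.diagHom hup x i ^ m i ≠ 1) :
    ∃ (x : Γ) (n : ℕ), (n : k) ≠ 0 ∧ Φ.diagHom hup x ^ n = 1 ∧ ∏ i, Φ.diagHom hup x i ^ m i ≠ 1 := by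
  classical
  obtain ⟨L, hsat, hL, himage⟩ := exists_lattice Φ hup
  let χ : (Fin N → ℤ) → (Fin N → kˣ) → kˣ := fun l t => ∏ i, t i ^ l i
  have hmL : m ∉ L := fun h => by
    obtain ⟨x, hx⟩ := hm
    exact hx ((hL m).1 h x)
  -- a cocharacter
  have : IsAddTorsionFree ((Fin N → ℤ) ⧸ L) := by
    refine ⟨fun j hj a b h => ?_⟩
    obtain ⟨a, rfl⟩ := L.mkQ_surjective a
    obtain ⟨b, rfl⟩ := L.mkQ_surjective b
    refine (Submodule.Quotient.eq L).2 (hsat (j : ℤ) _ (by exact_mod_cast hj) ?_)
    have h' : j • L.mkQ a = j • L.mkQ b := h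
    rw [← map_nsmul, ← map_nsmul, Submodule.mkQ_apply, Submodule.mkQ_apply, Submodule.Quotient.eq] at h'
    rwa [natCast_zsmul, nsmul_sub]
  have : Module.Free ℤ ((Fin N → ℤ) ⧸ L) := Module.free_of_finite_type_torsion_free'
  obtain ⟨l, hl⟩ : ∃ l : Module.Dual ℤ ((Fin N → ℤ) ⧸ L), l (L.mkQ m) ≠ 0 := by
    by_contra hne
    push Not at hne
    exact hmL ((Submodule.Quotient.mk_eq_zero L).1 ((Module.forall_dual_apply_eq_zero_iff ℤ _).1 hne))
  obtain ⟨n, hnp, hn⟩ := Nat.exists_infinite_primes (max ((l (L.mkQ m)).natAbs + 1) (ringChar k + 1))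
    |>.imp fun n h => And.symm h
  have hn0 : (n : k) ≠ 0 := fun h => by
    have h1 := (ringChar.spec k n).1 h
    rcases (Nat.dvd_prime hnp).1 h1 with h2 | h2
    · exact (CharP.char_ne_one k (ringChar k)) h2
    · omega
  have : NeZero (n : k) := ⟨hn0⟩
  obtain ⟨c₀, hc₀⟩ := HasEnoughRootsOfUnity.exists_primitiveRoot k n
  let c : kˣ := hc₀.isUnit (by omega) |>.unit
  have hc : IsPrimitiveRoot c n := IsPrimitiveRoot.coe_units_iff.1 hc₀
  let t : Fin N → kˣ := fun i => c ^ l (L.mkQ (Pi.single i 1))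
  have hχt : ∀ a, χ a t = c ^ l (L.mkQ a) := fun a => by
    conv_rhs => rw [← Finset.univ_sum_single a]
    simp only [χ, t, map_sum, ← zpow_mul]
    rw [← prod_zpow_eq c]
    refine Finset.prod_congr rfl fun i _ => ?_
    rw [show (Pi.single i (a i) : Fin N → ℤ) = a i • Pi.single i (1 : ℤ) by rw [← Pi.single_smul]; simp,
      map_smul, map_smul, smul_eq_mul, mul_comm]
  have hTt : ∀ a ∈ L, χ a t = 1 := fun a ha => by
    rw [hχt, Submodule.mkQ_apply, (Submodule.Quotient.mk_eq_zero L).2 ha, map_zero, zpow_zero]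
  obtain ⟨x, hx⟩ := himage t hTt
  refine ⟨x, n, hn0, funext fun i => ?_, fun h => ?_⟩
  · rw [Pi.pow_apply, Pi.one_apply, hx, ← Units.val_pow_eq_pow_val]
    simp only [t]
    rw [← zpow_natCast, ← zpow_mul, mul_comm, zpow_mul, zpow_natCast, hc.pow_eq_one, one_zpow, Units.val_one]
  · have e : ∏ i, Φ.diagHom hup x i ^ m i = ((χ m t : kˣ) : k) := by simp [χ, Units.coe_prod, hx]
    rw [e, hχt, Units.val_eq_one] at h
    have h1 := (hc.zpow_eq_one_iff_dvd _).1 h
    have h2 := Int.natAbs_dvd_natAbs.2 h1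
    rw [Int.natAbs_natCast] at h2
    have := Nat.le_of_dvd (Int.natAbs_pos.2 hl) h2
    omega

/-- The diagonal of a connected triangular group is divisible. -/
theorem exists_diag_pow (hup : ∀ x, Φ.ρ x ∈ fil k N 0) {n : ℕ} (hn : 0 < n) (x : Γ) :
    ∃ y, Φ.diagHom hup y ^ n = Φ.diagHom hup x := by
  classical
  obtain ⟨L, hsat, hL, himage⟩ := exists_lattice Φ hup
  have : IsAddTorsionFree ((Fin N → ℤ) ⧸ L) := by
    refine ⟨fun j hj a b h => ?_⟩
    obtain ⟨a, rfl⟩ := L.mkQ_surjective a
    obtain ⟨b, rfl⟩ := L.mkQ_surjective b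
    refine (Submodule.Quotient.eq L).2 (hsat (j : ℤ) _ (by exact_mod_cast hj) ?_)
    have h' : j • L.mkQ a = j • L.mkQ b := h
    rw [← map_nsmul, ← map_nsmul, Submodule.mkQ_apply, Submodule.mkQ_apply, Submodule.Quotient.eq] at h'
    rwa [natCast_zsmul, nsmul_sub]
  have : Module.Free ℤ ((Fin N → ℤ) ⧸ L) := Module.free_of_finite_type_torsion_free'
  let ι := Module.Free.ChooseBasisIndex ℤ ((Fin N → ℤ) ⧸ L)
  let b := Module.Free.chooseBasis ℤ ((Fin N → ℤ) ⧸ L)
  choose a ha using fun j : ι => L.mkQ_surjective (b j)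
  let δ : Fin N → kˣ := fun i => ((Pi.evalMonoidHom (fun _ => k) i).comp (Φ.diagHom hup)).toHomUnits x
  have hδ : ∀ i, (δ i : k) = Φ.diagHom hup x i := fun i => rfl
  let χ : (Fin N → ℤ) → (Fin N → kˣ) → kˣ := fun l t => ∏ i, t i ^ l i
  choose r hr using fun j : ι => IsAlgClosed.exists_pow_nat_eq ((χ (a j) δ : kˣ) : k) hn
  have hr0 : ∀ j, r j ≠ 0 := fun j h => Units.ne_zero (χ (a j) δ) (by rw [← hr, h, zero_pow hn.ne'])
  let c : (Fin N → ℤ) → ι → ℤ := fun l j => b.repr (L.mkQ l) j
  let t : Fin N → kˣ := fun i => ∏ j, Units.mk0 (r j) (hr0 j) ^ c (Pi.single i 1) j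
  have hsum : ∀ l, ∑ i, l i • (Pi.single i (1 : ℤ) : Fin N → ℤ) = l := fun l => by
    conv_rhs => rw [← Finset.univ_sum_single l]
    exact Finset.sum_congr rfl fun i _ => by rw [← Pi.single_smul]; simp
  have hct : ∀ l, χ l t = ∏ j, Units.mk0 (r j) (hr0 j) ^ c l j := fun l => by
    simp only [χ, t, ← Finset.prod_zpow, ← zpow_mul]
    rw [Finset.prod_comm]
    refine Finset.prod_congr rfl fun j _ => ?_
    rw [prod_zpow_eq]
    congr 1
    conv_rhs => rw [show c l j = b.repr (L.mkQ l) j from rfl, ← hsum l]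
    simp only [map_sum, map_smul, Finsupp.coe_finsetSum, Finset.sum_apply, Finsupp.coe_smul, Pi.smul_apply,
      smul_eq_mul, c, mul_comm]
  have htL : ∀ l ∈ L, χ l t = 1 := fun l hl => by
    rw [hct]
    simp [c, (Submodule.Quotient.mk_eq_zero L).2 hl]
  obtain ⟨y, hy⟩ := himage t htL
  refine ⟨y, funext fun i => ?_⟩
  rw [Pi.pow_apply, hy, ← hδ, ← Units.val_pow_eq_pow_val]
  congr 1
  have h1 : (∑ j, c (Pi.single i 1) j • a j) - Pi.single i 1 ∈ L := by
    refine (Submodule.Quotient.eq L).1 ?_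
    show L.mkQ _ = L.mkQ _
    simp only [map_sum, map_smul, ha]
    exact b.sum_repr _
  have h2 : χ ((∑ j, c (Pi.single i 1) j • a j) - Pi.single i 1) δ = 1 :=
    Units.ext (by simpa [χ, Units.coe_prod, hδ] using (hL _).1 h1 x)
  have h3 : χ (∑ j, c (Pi.single i 1) j • a j) δ = ∏ j, χ (a j) δ ^ c (Pi.single i 1) j := by
    simp only [χ, ← Finset.prod_zpow, ← zpow_mul]
    rw [Finset.prod_comm]
    refine Finset.prod_congr rfl fun i' _ => ?_
    rw [prod_zpow_eq]
    simp [mul_comm]
  have h4 : χ (∑ j, c (Pi.single i 1) j • a j) δ = χ (Pi.single i 1) δ := by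
    have hadd : ∀ l l', χ (l + l') δ = χ l δ * χ l' δ := fun l l' => by
      simp [χ, zpow_add, Finset.prod_mul_distrib]
    have e := hadd ((∑ j, c (Pi.single i 1) j • a j) - Pi.single i 1) (Pi.single i 1)
    rwa [sub_add_cancel, h2, _root_.one_mul] at e
  rw [← show χ (Pi.single i 1) δ = δ i by simp [χ, Pi.single_apply], ← h4, h3]
  simp only [t, ← Finset.prod_pow]
  refine Finset.prod_congr rfl fun j _ => ?_
  rw [← zpow_natCast, ← zpow_mul, mul_comm, zpow_mul, zpow_natCast]
  congr 1
  exact Units.ext (hr j)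

end Groth.Agent.Borel50.Lin
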