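import Groth.Agent.Borel50.Lin.Diag

/-!
# Lifting the diagonal torus of a connected triangular group
-/

set_option autoImplicit false
universe u v

open MvPolynomial

noncomputable section

namespace Groth.Agent.Borel50.Lin

variable {k : Type u} [Field k] {N : ℕ} {Γ : Type v} [Group Γ] [TopologicalSpace Γ] (Φ : Rep k Γ N)

namespace Rep

/-- A closed connected subgroup which is diagonal in a suitable basis. -/
structure IsToral (T : Subgroup Γ) : Prop where
  closed : IsClosed (T : Set Γ)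
  preconnected : _root_.IsPreconnected (T : Set Γ)
  diag : ∃ P Q : Matrix (Fin N) (Fin N) k, Q * P = 1 ∧ ∀ x ∈ T, (P * Φ.ρ x * Q).IsDiag

lemma commute_of_isDiag {P Q : Matrix (Fin N) (Fin N) k} (hQP : Q * P = 1) {x y : Γ}
    (hx : (P * Φ.ρ x * Q).IsDiag) (hy : (P * Φ.ρ y * Q).IsDiag) : x * y = y * x := by
  refine (Φ.conj P Q hQP).inj ?_
  rw [map_mul, map_mul, conj_ρ, conj_ρ, ← hx.diagonal_diag, ← hy.diagonal_diag, Matrix.diagonal_mul_diagonal,
    Matrix.diagonal_mul_diagonal]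
  congr 1
  funext i
  exact mul_comm _ _

variable {Φ} in
lemma IsToral.commute {T : Subgroup Γ} (h : Φ.IsToral T) {x y : Γ} (hx : x ∈ T) (hy : y ∈ T) : x * y = y * x := by
  obtain ⟨P, Q, hQP, hd⟩ := h.diag
  exact Φ.commute_of_isDiag hQP (hd x hx) (hd y hy)

lemma isClosed_isDiag (P Q : Matrix (Fin N) (Fin N) k) : IsClosed {x | (P * Φ.ρ x * Q).IsDiag} := by
  have : {x | (P * Φ.ρ x * Q).IsDiag} =
      ⋂ (i : Fin N) (j : Fin N) (_ : i ≠ j), {x | ev (sandwich P Q (i, j)) (Φ.ρ x) = 0} := by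
    ext x
    simp only [Set.mem_iInter, Set.mem_ofPred_eq, ev_sandwich]
    exact ⟨fun h i j hij => h hij, fun h i j hij => h i j hij⟩
  rw [this]
  exact isClosed_iInter fun i => isClosed_iInter fun j => isClosed_iInter fun _ => Φ.isClosed_ev _

include Φ in
/-- The identity component is normal. -/
lemma normal_identityComponent : Φ.identityComponent.Normal := by
  refine ⟨fun x hx a => ?_⟩
  have hc : Continuous fun y : Γ => a * y * a⁻¹ := (continuous_mul_right Φ a⁻¹).comp (Φ.good.left a)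
  have h := hc.image_connectedComponent_subset (1 : Γ) ⟨x, hx, rfl⟩
  show a * x * a⁻¹ ∈ connectedComponent (1 : Γ)
  simpa using h

/-- Commuting elements of order prime to the characteristic have simultaneously diagonalisable closure. -/
theorem exists_diag_closure [IsAlgClosed k] (S : Set Γ) (hcomm : ∀ x ∈ S, ∀ y ∈ S, x * y = y * x)
    (htor : ∀ x ∈ S, ∃ n : ℕ, (n : k) ≠ 0 ∧ x ^ n = 1) :
    ∃ P Q : Matrix (Fin N) (Fin N) k, Q * P = 1 ∧ ∀ x ∈ closure S, (P * Φ.ρ x * Q).IsDiag := by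
  obtain ⟨P, Q, hQP, hd⟩ := exists_diagonalize (Φ.ρ '' S)
    (by rintro _ ⟨x, hx, rfl⟩ _ ⟨y, hy, rfl⟩; rw [← map_mul, ← map_mul, hcomm x hx y hy])
    (by
      rintro _ ⟨x, hx, rfl⟩
      obtain ⟨n, hn, hxn⟩ := htor x hx
      refine ⟨Polynomial.X ^ n - 1, ?_, ?_⟩
      · simpa using (Polynomial.separable_X_pow_sub_C (1 : k) hn one_ne_zero).squarefree
      · rw [map_sub, map_one, Polynomial.aeval_X_pow, ← map_pow, hxn, map_one, sub_self])
  exact ⟨P, Q, hQP, fun x hx => closure_minimal (fun y hy => hd _ ⟨y, hy, rfl⟩) (Φ.isClosed_isDiag P Q) hx⟩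

/-- An element with torsion diagonal has the diagonal of a torsion element. -/
theorem exists_torsion_lift (hup : ∀ x, Φ.ρ x ∈ fil k N 0) {n : ℕ} (hn : (n : k) ≠ 0) {x : Γ}
    (hx : Φ.diagHom hup x ^ n = 1) : ∃ x' : Γ, x' ^ n = 1 ∧ Φ.diagHom hup x' = Φ.diagHom hup x := by
  let Z := Subgroup.centralizer (Subgroup.centralizer ({x} : Set Γ) : Set Γ)
  have hxC : x ∈ Subgroup.centralizer ({x} : Set Γ) :=
    Subgroup.mem_centralizer_iff.2 fun y hy => by rw [Set.mem_singleton_iff.1 hy]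
  have hxZ : x ∈ Z := Subgroup.mem_centralizer_iff.2 fun y hy =>
    (Subgroup.mem_centralizer_iff.1 hy x rfl).symm
  let ΦZ := Φ.restrict Z (Φ.isClosed_centralizer _)
  have hu : (⟨x, hxZ⟩ : Z) ^ n ∈ ΦZ.unipotent (fun z => hup z) 1 := by
    refine ΦZ.mem_unipotent_of_diag ?_
    rw [map_pow]
    exact hx
  obtain ⟨r, hr, hrn⟩ := exists_root ΦZ (fun z => hup z) le_rfl hn hu
  have hr1 : Φ.diagHom hup (r : Γ) = 1 := ΦZ.diag_of_mem_unipotent hr
  have hr1' : Φ.diagHom hup ((r : Γ)⁻¹) = 1 := by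
    have := map_mul (Φ.diagHom hup) (r : Γ)⁻¹ (r : Γ)
    rwa [inv_mul_cancel, map_one, hr1, mul_one, eq_comm] at this
  have hc : Commute x (r : Γ) :=
    Subgroup.mem_centralizer_iff.1 r.2 x hxC
  have hrn' : (r : Γ) ^ n = x ^ n := congrArg Subtype.val hrn
  refine ⟨x * (r : Γ)⁻¹, ?_, ?_⟩
  · rw [hc.inv_right.mul_pow, inv_pow, hrn', mul_inv_cancel]
  · rw [map_mul, hr1', mul_one]

variable [IsAlgClosed k] [PreconnectedSpace Γ]

/-- A connected triangular group has a torus with the same diagonal. -/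
theorem exists_toral_lift (hup : ∀ x, Φ.ρ x ∈ fil k N 0) :
    ∃ T : Subgroup Γ, Φ.IsToral T ∧ ∀ x, ∃ t ∈ T, Φ.diagHom hup t = Φ.diagHom hup x := by
  classical
  have := Φ.noeth
  let 𝒮 : Set (TopologicalSpace.Closeds Γ) := {C | ∃ H : Subgroup Γ, (H : Set Γ) = C ∧
    _root_.IsPreconnected (H : Set Γ) ∧ ∀ x, ∃ h ∈ H, Φ.diagHom hup h = Φ.diagHom hup x}
  obtain ⟨C, ⟨H, hHC, hpre, hcov⟩, hmin⟩ := wellFounded_lt.has_min 𝒮
    ⟨⟨Set.univ, isClosed_univ⟩, ⊤, by simp, by simpa using isPreconnected_univ, fun x => ⟨x, trivial, rfl⟩⟩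
  have hH : IsClosed (H : Set Γ) := hHC ▸ C.isClosed'
  have : PreconnectedSpace H := Subtype.preconnectedSpace hpre
  let ΦH := Φ.restrict H hH
  let hupH : ∀ x, ΦH.ρ x ∈ fil k N 0 := fun x => hup x
  have hdiag : ∀ x : H, ΦH.diagHom hupH x = Φ.diagHom hup (x : Γ) := fun x => rfl
  -- torsion elements are central
  have hcentral : ∀ (s : H) (n : ℕ), (n : k) ≠ 0 → s ^ n = 1 → ∀ x : H, x * s = s * x := by
    intro s n hn hs
    let Cs := Subgroup.centralizer ({s} : Set H)
    have hCs : IsClosed (Cs : Set H) := ΦH.isClosed_centralizer _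
    let ΦC := ΦH.restrict Cs hCs
    let C0 := ΦC.identityComponent
    have := ΦC.normal_identityComponent
    have := ΦC.finiteIndex_identityComponent
    let H' : Subgroup Γ := (C0.map Cs.subtype).map H.subtype
    have hH' : (H' : Set Γ) = Subtype.val '' (Subtype.val '' (C0 : Set Cs)) := by
      simp only [H', Subgroup.coe_map]
      rfl
    have hH'cl : IsClosed (H' : Set Γ) := by
      rw [hH']
      exact hH.isClosedMap_subtype_val _ (hCs.isClosedMap_subtype_val _ ΦC.isClosed_identityComponent)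
    have hH'pre : _root_.IsPreconnected (H' : Set Γ) := by
      rw [hH']
      exact (isPreconnected_connectedComponent.image _ continuous_subtype_val.continuousOn).image _
        continuous_subtype_val.continuousOn
    have hH'cov : ∀ x, ∃ h ∈ H', Φ.diagHom hup h = Φ.diagHom hup x := by
      intro x
      obtain ⟨h, hh, he⟩ := hcov x
      obtain ⟨y, hy⟩ := exists_diag_pow ΦH hupH (Nat.pos_of_ne_zero (Subgroup.FiniteIndex.index_ne_zero (H := C0)))
        ⟨h, hh⟩
      have hsame : s⁻¹ * (y * s * y⁻¹) ∈ ΦH.unipotent hupH 1 := by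
        refine ΦH.mem_unipotent_of_diag ?_
        calc ΦH.diagHom hupH (s⁻¹ * (y * s * y⁻¹))
            = ΦH.diagHom hupH s⁻¹ * (ΦH.diagHom hupH y * ΦH.diagHom hupH s * ΦH.diagHom hupH y⁻¹) := by
              simp only [map_mul]
          _ = (ΦH.diagHom hupH s⁻¹ * ΦH.diagHom hupH s) * (ΦH.diagHom hupH y * ΦH.diagHom hupH y⁻¹) := by ring
          _ = 1 := by rw [← map_mul, ← map_mul, inv_mul_cancel, mul_inv_cancel, map_one, mul_one]
      obtain ⟨v, hv, hve⟩ := exists_conj ΦH hupH hn hs (by rw [conj_pow, hs]; simp) hsame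
      have hc : v⁻¹ * y ∈ Cs := Subgroup.mem_centralizer_iff.2 fun z hz => by
        rw [Set.mem_singleton_iff.1 hz]
        calc s * (v⁻¹ * y) = v⁻¹ * (v * s * v⁻¹) * y := by group
          _ = v⁻¹ * (y * s * y⁻¹) * y := by rw [hve]
          _ = v⁻¹ * y * s := by group
      have hmem := Subgroup.pow_index_mem C0 ⟨_, hc⟩
      refine ⟨_, ⟨_, ⟨_, hmem, rfl⟩, rfl⟩, ?_⟩
      rw [← he]
      show Φ.diagHom hup (((v⁻¹ * y) ^ C0.index : H) : Γ) = _
      rw [← hdiag, map_pow, map_mul,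
        ΦH.diag_of_mem_unipotent (Subgroup.inv_mem _ hv), one_mul, hy]
      rfl
    have hle : (H' : Set Γ) ⊆ H := by
      rw [hH']; rintro _ ⟨z, -, rfl⟩; exact z.2
    have heq : (⟨(H' : Set Γ), hH'cl⟩ : TopologicalSpace.Closeds Γ) = C :=
      eq_of_le_of_not_lt (show (H' : Set Γ) ⊆ (C : Set Γ) from hHC ▸ hle) (hmin _ ⟨H', rfl, hH'pre, hH'cov⟩)
    intro x
    have hx : (x : Γ) ∈ (H' : Set Γ) := by
      rw [show (H' : Set Γ) = (C : Set Γ) from congrArg (fun D : TopologicalSpace.Closeds Γ => (D : Set Γ)) heq, ← hHC]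
      exact x.2
    rw [hH'] at hx
    obtain ⟨_, ⟨c, -, rfl⟩, hc⟩ := hx
    rw [← Subtype.ext hc]
    exact (Subgroup.mem_centralizer_iff.1 c.2 s rfl).symm
  -- the torsion subgroup and its closure
  let A : Subgroup H :=
    { carrier := {s | ∃ n : ℕ, (n : k) ≠ 0 ∧ s ^ n = 1}
      one_mem' := ⟨1, by simp, one_pow 1⟩
      mul_mem' := by
        rintro a b ⟨n, hn, ha⟩ ⟨l, hl, hb⟩
        refine ⟨n * l, by rw [Nat.cast_mul]; exact mul_ne_zero hn hl, ?_⟩
        rw [(show Commute a b from hcentral b l hl hb a).mul_pow, pow_mul, ha, one_pow, one_mul, Nat.mul_comm,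
          pow_mul, hb, one_pow]
      inv_mem' := by
        rintro a ⟨n, hn, ha⟩
        exact ⟨n, hn, by rw [inv_pow, ha, inv_one]⟩ }
  obtain ⟨K, hK⟩ := ΦH.exists_closure_subgroup A
  obtain ⟨P, Q, hQP, hd⟩ := ΦH.exists_diag_closure (A : Set H)
    (by rintro a - b ⟨l, hl, hb⟩; exact hcentral b l hl hb a) (fun a ha => ha)
  rw [← hK] at hd
  have hKcl : IsClosed (K : Set H) := hK ▸ isClosed_closure
  let ΦK := ΦH.restrict K hKcl
  let K0 := ΦK.identityComponent
  have := ΦK.finiteIndex_identityComponent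
  have := ΦK.normal_identityComponent
  have : PreconnectedSpace K0 := ΦK.preconnectedSpace_identityComponent
  let ΦK0 := ΦK.restrict K0 ΦK.isClosed_identityComponent
  let T : Subgroup Γ := (K0.map K.subtype).map H.subtype
  have hT : (T : Set Γ) = Subtype.val '' (Subtype.val '' (K0 : Set K)) := by
    simp only [T, Subgroup.coe_map]
    rfl
  refine ⟨T, ⟨?_, ?_, P, Q, hQP, ?_⟩, ?_⟩
  · rw [hT]
    exact hH.isClosedMap_subtype_val _ (hKcl.isClosedMap_subtype_val _ ΦK.isClosed_identityComponent)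
  · rw [hT]
    exact (isPreconnected_connectedComponent.image _ continuous_subtype_val.continuousOn).image _
      continuous_subtype_val.continuousOn
  · intro x hx
    rw [← SetLike.mem_coe, hT] at hx
    obtain ⟨_, ⟨c, -, rfl⟩, rfl⟩ := hx
    exact hd c.1 c.2
  intro x
  obtain ⟨h, hh, he⟩ := hcov x
  obtain ⟨L, hsat, hL, -⟩ := exists_lattice ΦH hupH
  obtain ⟨L', -, hL', himage'⟩ := exists_lattice ΦK0 (fun z => hup _)
  have hle : ∀ l ∈ L', l ∈ L := by
    intro l hl
    refine hsat (K0.index : ℤ) l (by exact_mod_cast Subgroup.FiniteIndex.index_ne_zero (H := K0)) ?_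
    by_contra hnot
    have hex : ∃ y, ∏ i, ΦH.diagHom hupH y i ^ ((K0.index : ℤ) • l) i ≠ 1 := by
      by_contra hne
      push Not at hne
      exact hnot ((hL _).2 hne)
    obtain ⟨y, n, hn, hyn, hy⟩ := torsion_separates ΦH hupH _ hex
    obtain ⟨y', hy'n, hy'⟩ := ΦH.exists_torsion_lift hupH hn hyn
    have hyK : y' ∈ K := by
      rw [← SetLike.mem_coe, hK]
      exact subset_closure ⟨n, hn, hy'n⟩
    have h1 := (hL' l).1 hl ⟨_, Subgroup.pow_index_mem K0 ⟨y', hyK⟩⟩
    refine hy ?_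
    rw [← hy']
    rw [← h1]
    refine Finset.prod_congr rfl fun i _ => ?_
    show ΦH.diagHom hupH y' i ^ ((K0.index : ℤ) • l) i = ΦH.diagHom hupH (y' ^ K0.index) i ^ l i
    rw [map_pow, Pi.pow_apply, Pi.smul_apply, smul_eq_mul, zpow_mul, zpow_natCast]
  let δ : Fin N → kˣ := fun i => ((Pi.evalMonoidHom (fun _ => k) i).comp (Φ.diagHom hup)).toHomUnits h
  obtain ⟨z, hz⟩ := himage' δ fun l hl => Units.ext (by
    simp only [Units.coe_prod, Units.val_zpow_eq_zpow_val, Units.val_one]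
    exact (hL l).1 (hle l hl) ⟨h, hh⟩)
  refine ⟨(((z : K) : H) : Γ), ?_, ?_⟩
  · rw [← SetLike.mem_coe, hT]
    exact ⟨_, ⟨_, z.2, rfl⟩, rfl⟩
  · rw [← he]
    exact funext hz

end Rep

end Groth.Agent.Borel50.Lin
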