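import Groth.Agent.Borel50.Lin.Points
import Mathlib.LinearAlgebra.Matrix.Adjugate
import Mathlib.LinearAlgebra.FreeModule.PID
import Mathlib.RingTheory.Polynomial.Basic

/-!
# Closed subgroups as stabilisers of subspaces
-/

set_option autoImplicit false
universe u

open WithConv
open scoped Matrix

noncomputable section

namespace Groth.Agent.Borel50.Lin.Stab

open Groth.Agent.UnipLib (rho)

section LinAlg

variable {k : Type u} [Field k] {d : ℕ}

/-- One plus a nilpotent matrix has determinant one. -/
theorem det_one_add_nilpotent {ι : Type*} [Fintype ι] [DecidableEq ι] (X : Matrix ι ι k) (hX : IsNilpotent X) :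
    (1 + X).det = 1 := by
  let φ : Matrix ι ι k →+* Matrix ι ι (Polynomial k) := (Polynomial.C : k →+* Polynomial k).mapMatrix
  let Y : Matrix ι ι (Polynomial k) := (Polynomial.X : Polynomial k) • φ X
  have hY : IsNilpotent Y := by
    obtain ⟨n, hn⟩ := hX
    exact ⟨n, by rw [smul_pow, ← map_pow, hn, map_zero, smul_zero]⟩
  have hu : IsUnit (1 + Y).det := (Matrix.isUnit_iff_isUnit_det _).1 hY.isUnit_one_add
  obtain ⟨c, -, hc⟩ := Polynomial.isUnit_iff.1 hu
  have hev : ∀ t : k, (1 + t • X).det = c := by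
    intro t
    have h1 := RingHom.map_det (Polynomial.evalRingHom t) (1 + Y)
    have h2 : (Polynomial.evalRingHom t).mapMatrix (1 + Y) = 1 + t • X := by
      rw [map_add, map_one]
      congr 1
      ext i j
      simp [Y, φ]
      ring
    rw [h2, ← hc] at h1
    simpa using h1.symm
  have h0 := hev 0
  rw [zero_smul, add_zero, Matrix.det_one] at h0
  have h1 := hev 1
  rw [one_smul, ← h0] at h1
  exact h1

/-- A row all of whose substitutions into an invertible matrix are singular vanishes. -/
theorem eq_zero_of_updateRow {M : Matrix (Fin d) (Fin d) k} (hM : M.det ≠ 0) {r : Fin d → k}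
    (h : ∀ i, (M.updateRow i r).det = 0) : r = 0 := by
  have hc : Matrix.cramer Mᵀ r = 0 := funext fun i => by
    rw [Matrix.cramer_transpose_apply, h i]; rfl
  have h1 := Matrix.mulVec_cramer Mᵀ r
  rw [hc, Matrix.mulVec_zero, Matrix.det_transpose] at h1
  exact (smul_eq_zero.1 h1.symm).resolve_left hM

end LinAlg

section Hopf

variable {k : Type u} [Field k] [IsAlgClosed k] {A : Type u} [CommRing A] [HopfAlgebra k A]
  [Algebra.FiniteType k A] [IsReduced A]

attribute [local instance] LieKolchin.zariski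

/-- A closed subgroup is the stabiliser of a subspace in a faithful representation with regular entries. -/
theorem exists_stab (H : Subgroup (LieKolchin.Pts k A)) (hH : IsClosed (H : Set (LieKolchin.Pts k A))) :
    ∃ (N d : ℕ) (Φ : Rep k (LieKolchin.Pts k A) N) (c : Fin N → Fin N → A)
      (J : Matrix (Fin N) (Fin d) k) (L : Matrix (Fin d) (Fin N) k),
      L * J = 1 ∧ (∀ g i j, Φ.ρ g i j = g.ofConv (c i j)) ∧
      ∀ g, g ∈ H ↔ Φ.ρ g * J = J * (L * Φ.ρ g * J) := by
  classical
  obtain ⟨s, hs⟩ := (inferInstance : Algebra.FiniteType k A).out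
  let I : Ideal A := PrimeSpectrum.vanishingIdeal (LieKolchin.toPrime '' (H : Set (LieKolchin.Pts k A)))
  have hI : ∀ f, f ∈ I ↔ ∀ h ∈ H, h.ofConv f = 0 := fun f => by
    rw [PrimeSpectrum.mem_vanishingIdeal]
    exact ⟨fun hf h hh => hf _ ⟨h, hh, rfl⟩, by rintro hf _ ⟨h, hh, rfl⟩; exact hf h hh⟩
  have : IsNoetherianRing A := Algebra.FiniteType.isNoetherianRing k A
  obtain ⟨t, ht⟩ := IsNoetherian.noetherian I
  obtain ⟨V, hVfin, hsV, hV⟩ := UnipLib.exists_stable (k := k) (s ∪ t)
  let N := Module.finrank k V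
  let b : Module.Basis (Fin N) k V := Module.finBasis k V
  let f : LieKolchin.Pts k A → Module.End k V := fun g => (rho g.ofConv).toLinearMap.restrict (hV g.ofConv)
  have hf1 : f 1 = 1 := LinearMap.ext fun v => Subtype.ext <| by
    refine UnipLib.ext_pts (k := k) fun x => ?_
    show x (rho _ (v : A)) = x v
    rw [UnipLib.pt_rho_self, toConv_ofConv, _root_.mul_one]
  have hfm : ∀ g h, f (g * h) = f g * f h := fun g h => LinearMap.ext fun v => Subtype.ext <| by
    show rho (g * h).ofConv (v : A) = rho g.ofConv (rho h.ofConv (v : A))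
    rw [UnipLib.rho_mul, toConv_ofConv, toConv_ofConv]
  let ρ : LieKolchin.Pts k A →* Matrix (Fin N) (Fin N) k :=
    { toFun := fun g => LinearMap.toMatrixAlgEquiv b (f g)
      map_one' := by rw [hf1, map_one]
      map_mul' := fun g h => by rw [hfm, map_mul] }
  let π : Fin N → A →ₗ[k] k := fun i => ((b.coord i).comp (Submodule.subtype V).leftInverse)
  have hπ : ∀ i (v : V), π i (v : A) = b.repr v i := fun i v => by
    show b.coord i ((Submodule.subtype V).leftInverse (Submodule.subtype V v)) = _
    rw [LinearMap.leftInverse_apply_of_inj (Submodule.ker_subtype V)]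
    rfl
  choose c hc using fun p : Fin N × Fin N => GrpDimOne.exists_coeff (π p.1) ((b p.2 : V) : A)
  have hρ : ∀ g i j, ρ g i j = g.ofConv (c (i, j)) := fun g i j => by
    show LinearMap.toMatrixAlgEquiv b (f g) i j = _
    rw [hc, LinearMap.toMatrixAlgEquiv_apply, ← hπ]
    rfl
  let θ : MvPolynomial (Fin N × Fin N) k →ₐ[k] A := MvPolynomial.aeval c
  have hev : ∀ g q, ev q (ρ g) = g.ofConv (θ q) := fun g q => by
    have e : (fun p : Fin N × Fin N => ρ g p.1 p.2) = fun p => g.ofConv (c p) := funext fun p => hρ g p.1 p.2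
    show MvPolynomial.eval (fun p : Fin N × Fin N => ρ g p.1 p.2) q = _
    rw [e, ← AlgHom.comp_apply, MvPolynomial.comp_aeval, MvPolynomial.aeval_eq_eval]
  have hθ : Function.Surjective θ := by
    rw [← AlgHom.range_eq_top, eq_top_iff, ← hs]
    refine Algebra.adjoin_le fun a ha => ?_
    have hVle : V ≤ Subalgebra.toSubmodule θ.range := by
      intro v hv
      have e : v = ∑ j, b.repr ⟨v, hv⟩ j • ((b j : V) : A) := by
        have := congrArg Subtype.val (b.sum_repr ⟨v, hv⟩).symm
        simp only [Submodule.coe_sum, Submodule.coe_smul] at this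
        exact this
      rw [e]
      refine Submodule.sum_mem _ fun j _ => Submodule.smul_mem _ _ ?_
      refine ⟨∑ i, MvPolynomial.C (Coalgebra.counit (R := k) ((b i : V) : A)) * MvPolynomial.X (i, j), ?_⟩
      refine UnipLib.ext_pts (k := k) fun g => ?_
      show g (θ _) = g ((b j : V) : A)
      have h1 : ((f (toConv g) (b j) : V) : A) = rho g ((b j : V) : A) := rfl
      have h2 : Bialgebra.counitAlgHom k A (rho g ((b j : V) : A)) = g ((b j : V) : A) := by
        rw [UnipLib.pt_rho_self, show toConv (Bialgebra.counitAlgHom k A) = (1 : LieKolchin.Pts k A) from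
          WithConv.ofConv_injective (AlgHom.ext fun a => rfl), _root_.one_mul]
      rw [← h2, ← h1, ← b.sum_repr (f (toConv g) (b j))]
      simp only [map_sum, map_mul, θ, MvPolynomial.aeval_X, MvPolynomial.aeval_C, AlgHom.commutes,
        Submodule.coe_sum, Submodule.coe_smul, map_smul, Bialgebra.counitAlgHom_apply, smul_eq_mul]
      refine Finset.sum_congr rfl fun i _ => ?_
      rw [show g (c (i, j)) = (toConv g).ofConv (c (i, j)) from rfl, hc, ← hπ i (f (toConv g) (b j)), mul_comm]
      rw [h1]
      rfl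
    exact hVle (hsV (Finset.mem_union_left _ ha))
  let Φ : Rep k (LieKolchin.Pts k A) N :=
    { ρ := ρ
      inj := fun g g' h => by
        refine WithConv.ext (AlgHom.ext fun a => ?_)
        obtain ⟨q, rfl⟩ := hθ a
        rw [← hev, ← hev, h]
      good := LieKolchin.goodTop
      noeth := (Topology.IsInducing.induced LieKolchin.toPrime).noetherianSpace
      spec := fun S M => ⟨fun h => by
        have hker : RingHom.ker θ.toRingHom ≤ RingHom.ker (MvPolynomial.eval fun p => M p.1 p.2) := fun q hq => by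
          refine h q fun s _ => ?_
          rw [hev, show θ q = 0 from hq, map_zero]
        let g₀ : A →ₐ[k] k := AlgHom.liftOfSurjective θ hθ (MvPolynomial.aeval fun p => M p.1 p.2)
          (fun q hq => by simpa [RingHom.mem_ker, MvPolynomial.aeval_eq_eval] using hker hq)
        have hg₀ : ∀ q, g₀ (θ q) = ev q M := fun q => by
          rw [show g₀ (θ q) = (g₀.comp θ) q from rfl, AlgHom.liftOfSurjective_comp, MvPolynomial.aeval_eq_eval]
        refine ⟨toConv g₀, ?_, Matrix.ext fun i j => ?_⟩
        · rw [(Topology.IsInducing.induced LieKolchin.toPrime).closure_eq_preimage_closure_image, Set.mem_preimage,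
            ← PrimeSpectrum.zeroLocus_vanishingIdeal_eq_closure, PrimeSpectrum.mem_zeroLocus]
          intro a ha
          obtain ⟨q, rfl⟩ := hθ a
          show g₀ (θ q) = 0
          rw [hg₀]
          refine h q fun s hs => ?_
          rw [hev]
          exact (PrimeSpectrum.mem_vanishingIdeal _ _).1 ha _ ⟨s, hs, rfl⟩
        · rw [hρ]
          show g₀ (c (i, j)) = _
          have := hg₀ (MvPolynomial.X (i, j))
          simpa [θ, ev] using this, by
        rintro ⟨x, hx, rfl⟩ q hq
        rw [hev]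
        exact closure_minimal (fun s hs => show s ∈ {y : LieKolchin.Pts k A | y.ofConv (θ q) = 0} by
          show s.ofConv _ = 0
          rw [← hev]; exact hq s hs) (LieKolchin.isClosed_setOf_eq _ _) hx⟩ }
  -- the subspace
  let W : Submodule k (Fin N → k) := ((I.restrictScalars k).comap V.subtype).map b.equivFun.toLinearMap
  let d := Module.finrank k W
  let w : Module.Basis (Fin d) k W := Module.finBasis k W
  let J : Matrix (Fin N) (Fin d) k := LinearMap.toMatrix' (W.subtype.comp w.equivFun.symm.toLinearMap)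
  obtain ⟨l, hl⟩ := LinearMap.exists_leftInverse_of_injective (W.subtype.comp w.equivFun.symm.toLinearMap)
    (LinearMap.ker_eq_bot.2 ((W.injective_subtype).comp w.equivFun.symm.injective))
  let L : Matrix (Fin d) (Fin N) k := LinearMap.toMatrix' l
  have hLJ : L * J = 1 := by rw [← LinearMap.toMatrix'_comp, hl, LinearMap.toMatrix'_id]
  have hJW : ∀ v : Fin N → k, v ∈ W ↔ ∃ u, J *ᵥ u = v := fun v => by
    constructor
    · intro hv
      exact ⟨w.equivFun ⟨v, hv⟩, by rw [LinearMap.toMatrix'_mulVec]; simp⟩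
    · rintro ⟨u, rfl⟩
      rw [LinearMap.toMatrix'_mulVec]
      exact (w.equivFun.symm u).2
  have hmul : ∀ g (v : V), b.equivFun (f g v) = ρ g *ᵥ b.equivFun v := fun g v => funext fun i =>
    (congrFun (LinearMap.toMatrix_mulVec_repr b b (f g) v) i).symm
  have hstab : ∀ g, g ∈ H ↔ ∀ v ∈ W, ρ g *ᵥ v ∈ W := by
    intro g
    constructor
    · rintro hg _ ⟨v, hv, rfl⟩
      refine ⟨f g v, ?_, hmul g v⟩
      show (f g v : A) ∈ I
      refine (hI _).2 fun h hh => ?_
      show h.ofConv (rho g.ofConv (v : A)) = 0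
      rw [UnipLib.pt_rho_self, toConv_ofConv, toConv_ofConv]
      exact (hI _).1 hv _ (H.mul_mem hh hg)
    · intro hg
      rw [← SetLike.mem_coe, ← hH.closure_eq,
        (Topology.IsInducing.induced LieKolchin.toPrime).closure_eq_preimage_closure_image, Set.mem_preimage,
        ← PrimeSpectrum.zeroLocus_vanishingIdeal_eq_closure, PrimeSpectrum.mem_zeroLocus]
      show (I : Set A) ⊆ RingHom.ker g.ofConv.toRingHom
      rw [SetLike.coe_subset_coe, ← ht]
      refine Ideal.span_le.2 fun a ha => ?_
      have haV : a ∈ V := hsV (Finset.mem_union_right _ ha)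
      have haI : a ∈ I := by rw [← ht]; exact Ideal.subset_span ha
      obtain ⟨v', hv', he⟩ := hg _ ⟨⟨a, haV⟩, haI, rfl⟩
      have e : v' = f g ⟨a, haV⟩ := b.equivFun.injective (he.trans (hmul g ⟨a, haV⟩).symm)
      have h1 : (1 : LieKolchin.Pts k A).ofConv ((f g ⟨a, haV⟩ : V) : A) = 0 := by
        rw [← e]; exact (hI _).1 hv' 1 H.one_mem
      show g.ofConv a = 0
      have h2 : (1 : LieKolchin.Pts k A).ofConv (rho g.ofConv a) = 0 := h1
      rwa [UnipLib.pt_rho_self, toConv_ofConv, toConv_ofConv, _root_.one_mul] at h2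
  refine ⟨N, d, Φ, fun i j => c (i, j), J, L, hLJ, hρ, fun g => ?_⟩
  rw [hstab]
  constructor
  · intro hg
    refine Matrix.ext_of_mulVec_single fun j => ?_
    obtain ⟨u, hu⟩ := (hJW _).1 (hg _ ((hJW _).2 ⟨Pi.single j 1, rfl⟩))
    rw [← Matrix.mulVec_mulVec]
    show ρ g *ᵥ (J *ᵥ Pi.single j 1) = _
    rw [← hu, show (J * (L * ρ g * J)) *ᵥ Pi.single j 1 = J *ᵥ (L *ᵥ (ρ g *ᵥ (J *ᵥ Pi.single j 1))) by
      simp only [Matrix.mulVec_mulVec, Matrix.mul_assoc], ← hu, Matrix.mulVec_mulVec (M := L), hLJ,
      Matrix.one_mulVec]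
  · intro hg v hv
    obtain ⟨u, rfl⟩ := (hJW v).1 hv
    refine (hJW _).2 ⟨(L * ρ g * J) *ᵥ u, ?_⟩
    rw [Matrix.mulVec_mulVec, Matrix.mulVec_mulVec, ← hg]

end Hopf

end Groth.Agent.Borel50.Lin.Stab
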