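import Groth.Agent.Borel50.Lin.Triangular

/-!
# Diagonalisable connected subgroups: maximality, rigidity, generic elements, centralisers
-/

set_option autoImplicit false
universe u v

open MvPolynomial

noncomputable section

namespace Groth.Agent.Borel50.Lin.Rep

open Groth.Agent.LieKolchin (GoodTop preconnected_closure eq_of_finite_values)

variable {k : Type u} [Field k] {N : ℕ} {Γ : Type v} [Group Γ] [TopologicalSpace Γ] (Φ : Rep k Γ N)

lemma isClosed_map_subtype {H : Subgroup Γ} (hH : IsClosed (H : Set Γ)) {S : Subgroup H} (hS : IsClosed (S : Set H)) :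
    IsClosed (S.map H.subtype : Set Γ) := by
  rw [Subgroup.coe_map]
  exact hH.isClosedMap_subtype_val _ hS

lemma isPreconnected_map_subtype {H : Subgroup Γ} {S : Subgroup H} (hS : _root_.IsPreconnected (S : Set H)) :
    _root_.IsPreconnected (S.map H.subtype : Set Γ) := by
  rw [Subgroup.coe_map]
  exact hS.image _ continuous_subtype_val.continuousOn

variable {Φ} in
lemma IsToral.map_subtype {H : Subgroup Γ} {hH : IsClosed (H : Set Γ)} {T : Subgroup H}
    (h : (Φ.restrict H hH).IsToral T) : Φ.IsToral (T.map H.subtype) := by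
  refine ⟨isClosed_map_subtype hH h.closed, isPreconnected_map_subtype h.preconnected, ?_⟩
  obtain ⟨P, Q, hQP, hd⟩ := h.diag
  exact ⟨P, Q, hQP, by rintro _ ⟨x, hx, rfl⟩; exact hd x hx⟩

/-- The trivial subgroup is toral. -/
lemma isToral_bot : Φ.IsToral ⊥ := by
  refine ⟨?_, ?_, 1, 1, mul_one 1, fun x hx => ?_⟩
  · rw [Subgroup.coe_bot]; exact Φ.isClosed_singleton 1
  · rw [Subgroup.coe_bot]; exact isPreconnected_singleton
  · rw [Subgroup.mem_bot.1 hx, map_one, mul_one, mul_one]; exact Matrix.isDiag_one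

variable {Φ} in
/-- The closed subgroup generated by two commuting tori is a torus. -/
theorem IsToral.exists_sup [IsAlgClosed k] {T₁ T₂ : Subgroup Γ} (h₁ : Φ.IsToral T₁) (h₂ : Φ.IsToral T₂)
    (hc : ∀ x ∈ T₁, ∀ y ∈ T₂, x * y = y * x) : ∃ T, Φ.IsToral T ∧ T₁ ≤ T ∧ T₂ ≤ T := by
  let S : Set Γ := (T₁ : Set Γ) ∪ T₂
  obtain ⟨K, hK⟩ := Φ.exists_closure_subgroup (Subgroup.closure S)
  obtain ⟨P₁, Q₁, e₁, hd₁⟩ := h₁.diag
  obtain ⟨P₂, Q₂, e₂, hd₂⟩ := h₂.diag
  obtain ⟨P, Q, hQP, hd⟩ := exists_diagonalize (Φ.ρ '' S)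
    (by
      rintro _ ⟨x, hx, rfl⟩ _ ⟨y, hy, rfl⟩
      rw [← map_mul, ← map_mul]
      congr 1
      rcases hx with hx | hx <;> rcases hy with hy | hy
      · exact h₁.commute hx hy
      · exact hc x hx y hy
      · exact (hc y hy x hx).symm
      · exact h₂.commute hx hy)
    (by
      rintro _ ⟨x, hx | hx, rfl⟩
      · exact exists_squarefree_of_isDiag e₁ (hd₁ x hx)
      · exact exists_squarefree_of_isDiag e₂ (hd₂ x hx))
  let D : Subgroup Γ :=
    { carrier := {x | (P * Φ.ρ x * Q).IsDiag}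
      one_mem' := by
        show (P * Φ.ρ 1 * Q).IsDiag
        rw [map_one, mul_one, mul_eq_one_comm.mp hQP]; exact Matrix.isDiag_one
      mul_mem' := fun {x y} hx hy => by
        show ((Φ.conj P Q hQP).ρ (x * y)).IsDiag
        rw [map_mul, conj_ρ, conj_ρ, ← Matrix.IsDiag.diagonal_diag hx, ← Matrix.IsDiag.diagonal_diag hy,
          Matrix.diagonal_mul_diagonal]
        exact Matrix.isDiag_diagonal _
      inv_mem' := fun {x} hx => by
        show ((Φ.conj P Q hQP).ρ x⁻¹).IsDiag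
        have h := map_mul (Φ.conj P Q hQP).ρ x⁻¹ x
        rw [inv_mul_cancel, map_one] at h
        obtain ⟨d, hd⟩ : ∃ d, (Φ.conj P Q hQP).ρ x = Matrix.diagonal d :=
          ⟨_, (Matrix.IsDiag.diagonal_diag hx).symm⟩
        intro i j hij
        have h' := congrArg (fun M => M i j) h
        rw [hd] at h'
        simp only [Matrix.mul_diagonal, Matrix.one_apply_ne hij] at h'
        rcases mul_eq_zero.1 h'.symm with h'' | h''
        · exact h''
        · exfalso
          have h3 := congrArg (fun M => M j j) h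
          rw [hd] at h3
          simp [Matrix.mul_diagonal, h''] at h3 }
  have hSD : Subgroup.closure S ≤ D := (Subgroup.closure_le D).2 fun x hx => hd _ ⟨x, hx, rfl⟩
  refine ⟨K, ⟨hK ▸ isClosed_closure, ?_, P, Q, hQP, fun x hx => ?_⟩, fun x hx => ?_, fun x hx => ?_⟩
  · rw [hK]
    refine (preconnected_closure Φ.good S ?_ (Or.inl T₁.one_mem)).closure
    exact IsPreconnected.union 1 T₁.one_mem T₂.one_mem h₁.preconnected h₂.preconnected
  · rw [← SetLike.mem_coe, hK] at hx
    exact closure_minimal hSD (Φ.isClosed_isDiag P Q) hx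
  · rw [← SetLike.mem_coe, hK]; exact subset_closure (Subgroup.subset_closure (Or.inl hx))
  · rw [← SetLike.mem_coe, hK]; exact subset_closure (Subgroup.subset_closure (Or.inr hx))

/-- The ideal of polynomials vanishing on a set. -/
def vanishing (S : Set Γ) : Ideal (MvPolynomial (Fin N × Fin N) k) :=
  ⨅ x : S, RingHom.ker (eval fun p => Φ.ρ (x : Γ) p.1 p.2)

lemma mem_vanishing {S : Set Γ} {f : MvPolynomial (Fin N × Fin N) k} :
    f ∈ Φ.vanishing S ↔ ∀ x ∈ S, ev f (Φ.ρ x) = 0 := by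
  simp [vanishing, Ideal.mem_iInf, RingHom.mem_ker]

lemma isPrime_vanishing {S : Set Γ} (hS : IsIrreducible S) : (Φ.vanishing S).IsPrime := by
  obtain ⟨x₀, hx₀⟩ := hS.1
  refine ⟨fun h => one_ne_zero (α := k) ?_, fun {f g} hfg => ?_⟩
  · simpa [ev] using Φ.mem_vanishing.1 (h ▸ Submodule.mem_top : (1 : MvPolynomial _ k) ∈ Φ.vanishing S) x₀ hx₀
  · have hu : S ⊆ {x | ev f (Φ.ρ x) = 0} ∪ {x | ev g (Φ.ρ x) = 0} := fun x hx => by
      simpa [ev] using Φ.mem_vanishing.1 hfg x hx
    rcases isPreirreducible_iff_isClosed_union_isClosed.1 hS.2 _ _ (Φ.isClosed_ev f) (Φ.isClosed_ev g) hu with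
      h | h
    · exact Or.inl (Φ.mem_vanishing.2 fun x hx => h hx)
    · exact Or.inr (Φ.mem_vanishing.2 fun x hx => h hx)

include Φ in
lemma isIrreducible_of_preconnected {H : Subgroup Γ} (hH : IsClosed (H : Set Γ))
    (hpre : _root_.IsPreconnected (H : Set Γ)) : IsIrreducible (H : Set Γ) := by
  have : PreconnectedSpace H := Subtype.preconnectedSpace hpre
  have := (Φ.restrict H hH).irreducibleSpace
  have h := (IrreducibleSpace.isIrreducible_univ H).image Subtype.val continuous_subtype_val.continuousOn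
  rwa [Set.image_univ, Subtype.range_coe] at h

variable {Φ} in
/-- Every torus lies in a maximal one. -/
theorem IsToral.exists_maximal {T₀ : Subgroup Γ} (h₀ : Φ.IsToral T₀) :
    ∃ T, Φ.IsToral T ∧ T₀ ≤ T ∧ ∀ T', Φ.IsToral T' → T ≤ T' → T' = T := by
  classical
  have hex : ∃ n : ℕ, ∃ T, Φ.IsToral T ∧ T₀ ≤ T ∧ (Φ.vanishing T).height = n := by
    have := Φ.isPrime_vanishing (Φ.isIrreducible_of_preconnected h₀.closed h₀.preconnected)
    obtain ⟨n, hn⟩ := ENat.ne_top_iff_exists.1 (Ideal.height_ne_top_of_isPrime (I := Φ.vanishing T₀))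
    exact ⟨n, T₀, h₀, le_rfl, hn.symm⟩
  obtain ⟨T, hT, hle, hn⟩ := Nat.find_spec hex
  refine ⟨T, hT, hle, fun T' hT' hTT' => ?_⟩
  by_contra hne
  have := Φ.isPrime_vanishing (Φ.isIrreducible_of_preconnected hT'.closed hT'.preconnected)
  have := Φ.isPrime_vanishing (Φ.isIrreducible_of_preconnected hT.closed hT.preconnected)
  have hlt : Φ.vanishing (T' : Set Γ) < Φ.vanishing (T : Set Γ) := by
    refine lt_of_le_of_ne (fun f hf => Φ.mem_vanishing.2 fun x hx => Φ.mem_vanishing.1 hf x (hTT' hx)) fun e => ?_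
    refine hne (le_antisymm (fun x hx => ?_) hTT')
    rw [← SetLike.mem_coe, ← hT.closed.closure_eq]
    exact Φ.mem_closure fun f hf => Φ.mem_vanishing.1 (e ▸ Φ.mem_vanishing.2 hf) x hx
  have hh := Ideal.height_strict_mono_of_isPrime hlt
  obtain ⟨n, hn'⟩ := ENat.ne_top_iff_exists.1 (Ideal.height_ne_top_of_isPrime (I := Φ.vanishing (T' : Set Γ)))
  rw [← hn', hn, ENat.coe_lt_coe] at hh
  exact Nat.find_min hex hh ⟨T', hT', hle.trans hTT', hn'.symm⟩

variable {Φ} in
/-- A torus has an element with the same centraliser. -/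
theorem IsToral.exists_generic {T : Subgroup Γ} (hT : Φ.IsToral T) :
    ∃ t ∈ T, ∀ x : Γ, x * t = t * x → ∀ s ∈ T, x * s = s * x := by
  classical
  obtain ⟨P, Q, hQP, hd⟩ := hT.diag
  let Ψ := Φ.conj P Q hQP
  have hirr := Φ.isIrreducible_of_preconnected hT.closed hT.preconnected
  let e : Fin N × Fin N → Set Γ := fun p => {x | ev (X (p.1, p.1) - X (p.2, p.2)) (Ψ.ρ x) = 0}
  let I := Finset.univ.filter fun p => ¬ (T : Set Γ) ⊆ e p
  obtain ⟨t, ht, htI⟩ : ∃ t ∈ T, ∀ p ∈ I, t ∉ e p := by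
    by_contra hne
    push Not at hne
    obtain ⟨s, hs, hTs⟩ := isIrreducible_iff_sUnion_isClosed.1 hirr (I.image e)
      (fun z hz => by
        obtain ⟨p, -, rfl⟩ := Finset.mem_image.1 hz
        exact Ψ.isClosed_ev _)
      (fun x hx => by
        obtain ⟨p, hp, hxp⟩ := hne x hx
        exact ⟨e p, Finset.mem_coe.2 (Finset.mem_image_of_mem e hp), hxp⟩)
    obtain ⟨p, hp, rfl⟩ := Finset.mem_image.1 hs
    exact (Finset.mem_filter.1 hp).2 hTs
  refine ⟨t, ht, fun x hx s hs => Ψ.inj ?_⟩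
  obtain ⟨a, ha⟩ : ∃ a, Ψ.ρ t = Matrix.diagonal a := ⟨_, (Matrix.IsDiag.diagonal_diag (hd t ht)).symm⟩
  obtain ⟨b, hb⟩ : ∃ b, Ψ.ρ s = Matrix.diagonal b := ⟨_, (Matrix.IsDiag.diagonal_diag (hd s hs)).symm⟩
  have hxt := congrArg Ψ.ρ hx
  rw [map_mul, map_mul, ha] at hxt
  rw [map_mul, map_mul, hb]
  refine Matrix.ext fun i j => ?_
  have hij := congrArg (fun M => M i j) hxt
  simp only [Matrix.mul_diagonal, Matrix.diagonal_mul] at hij ⊢
  by_cases hmem : (i, j) ∈ I
  · have hne : a i ≠ a j := fun h => htI _ hmem (show ev _ (Ψ.ρ t) = 0 by simp [ev, ha, h])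
    have h0 : Ψ.ρ x i j = 0 := by
      by_contra h0
      rw [mul_comm] at hij
      exact hne (mul_right_cancel₀ h0 hij).symm
    rw [h0]; ring
  · have h1 : (T : Set Γ) ⊆ e (i, j) := by
      by_contra h; exact hmem (Finset.mem_filter.2 ⟨Finset.mem_univ _, h⟩)
    have h2 : b i = b j := by
      have := h1 hs
      simpa [e, ev, hb, sub_eq_zero] using this
    rw [h2]; ring

/-- The identity component of the centraliser of a subgroup. -/
def centralizerComp (T : Subgroup Γ) : Subgroup Γ :=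
  (Φ.restrict (Subgroup.centralizer (T : Set Γ)) (Φ.isClosed_centralizer _)).identityComponent.map
    (Subgroup.centralizer (T : Set Γ)).subtype

lemma isClosed_centralizerComp (T : Subgroup Γ) : IsClosed (Φ.centralizerComp T : Set Γ) :=
  isClosed_map_subtype (Φ.isClosed_centralizer _) (Rep.isClosed_identityComponent _)

lemma isPreconnected_centralizerComp (T : Subgroup Γ) : _root_.IsPreconnected (Φ.centralizerComp T : Set Γ) :=
  isPreconnected_map_subtype isPreconnected_connectedComponent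

lemma centralizerComp_le (T : Subgroup Γ) : Φ.centralizerComp T ≤ Subgroup.centralizer (T : Set Γ) :=
  Subgroup.map_subtype_le _

lemma le_centralizerComp {T H : Subgroup Γ} (hH : _root_.IsPreconnected (H : Set Γ))
    (hc : H ≤ Subgroup.centralizer (T : Set Γ)) : H ≤ Φ.centralizerComp T := by
  intro x hx
  refine ⟨⟨x, hc hx⟩, ?_, rfl⟩
  have hpre : _root_.IsPreconnected ((Subtype.val : Subgroup.centralizer (T : Set Γ) → Γ) ⁻¹' (H : Set Γ)) := by
    refine Topology.IsInducing.subtypeVal.isPreconnected_image.1 ?_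
    have e : (Subtype.val : Subgroup.centralizer (T : Set Γ) → Γ) '' (Subtype.val ⁻¹' (H : Set Γ)) = H :=
      Set.Subset.antisymm (by rintro _ ⟨y, hy, rfl⟩; exact hy) fun y hy => ⟨⟨y, hc hy⟩, hy, rfl⟩
    convert hH using 1; exact Set.Subset.antisymm (by rintro _ ⟨y, hy, rfl⟩; exact hy) fun y hy => ⟨⟨y, hc hy⟩, hy, rfl⟩

  exact hpre.subset_connectedComponent (x := 1) H.one_mem (by exact hx)

variable {Φ} in
lemma IsToral.le_centralizerComp_self {T : Subgroup Γ} (hT : Φ.IsToral T) : T ≤ Φ.centralizerComp T :=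
  Φ.le_centralizerComp hT.preconnected fun _ hx =>
    Subgroup.mem_centralizer_iff.2 fun _ hy => hT.commute hy hx

variable {Φ} in
/-- Rigidity: modulo the connected centraliser there are finitely many elements normalising a torus. -/
theorem IsToral.exists_finite_normalizer {T : Subgroup Γ} (hT : Φ.IsToral T) :
    ∃ S : Finset Γ, ∀ x, (∀ s ∈ T, x * s * x⁻¹ ∈ T ∧ x⁻¹ * s * x ∈ T) →
      ∃ y ∈ S, y⁻¹ * x ∈ Φ.centralizerComp T := by
  classical
  obtain ⟨P, Q, hQP, hd⟩ := hT.diag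
  let M : Subgroup Γ :=
    { carrier := {x | ∀ s ∈ T, x * s * x⁻¹ ∈ T ∧ x⁻¹ * s * x ∈ T}
      one_mem' := fun s hs => by simpa using hs
      mul_mem' := fun {a b} ha hb s hs => by
        refine ⟨?_, ?_⟩
        · have := (ha _ (hb s hs).1).1
          simpa [mul_assoc] using this
        · have := (hb _ (ha s hs).2).2
          simpa [mul_assoc] using this
      inv_mem' := fun {a} ha s hs => by simpa [and_comm] using ha s hs }
  have hM : IsClosed (M : Set Γ) := by
    have : (M : Set Γ) = ⋂ s ∈ T, ((fun x => x * s * x⁻¹) ⁻¹' (T : Set Γ)) ∩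
        ((fun x => x⁻¹ * s * x⁻¹⁻¹) ⁻¹' (T : Set Γ)) := by
      ext x; simp [M]
    rw [this]
    exact isClosed_biInter fun s _ => (hT.closed.preimage (Φ.good.conj s)).inter
      (hT.closed.preimage ((Φ.good.conj s).comp Φ.good.inv))
  let ΦM := Φ.restrict M hM
  have := ΦM.finiteIndex_identityComponent
  have : PreconnectedSpace ΦM.identityComponent := ΦM.preconnectedSpace_identityComponent
  have hcent : ΦM.identityComponent.map M.subtype ≤ Subgroup.centralizer (T : Set Γ) := by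
    rintro _ ⟨x, hx, rfl⟩
    refine Subgroup.mem_centralizer_iff.2 fun s hs => ?_
    let Ψ := Φ.conj P Q hQP
    have hcont : Continuous fun z : ΦM.identityComponent => ((z : M) : Γ) * s * ((z : M) : Γ)⁻¹ :=
      (Φ.good.conj s).comp (continuous_subtype_val.comp continuous_subtype_val)
    have key := eq_of_finite_values (fun z : ΦM.identityComponent => ((z : M) : Γ) * s * ((z : M) : Γ)⁻¹)
      ?_ (fun c => (Φ.isClosed_singleton c).preimage hcont) ⟨x, hx⟩ 1
    · simp only [OneMemClass.coe_one, one_mul, inv_one, mul_one] at key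
      conv_lhs => rw [← key]
      simp
    -- finitely many possible conjugates
    let R : Set k := {r | (Φ.ρ s).charpoly.IsRoot r}
    have hR : R.Finite := Polynomial.finite_setOfPred_isRoot (Matrix.charpoly_monic _).ne_zero
    have hfinite : {g : Γ | (Ψ.ρ g).IsDiag ∧ ∀ i, Ψ.ρ g i i ∈ R}.Finite := by
      refine Set.Finite.of_finite_image (f := fun g i => Ψ.ρ g i i) ((Set.Finite.pi fun _ => hR).subset ?_) ?_
      · rintro _ ⟨g, hg, rfl⟩ i -
        exact hg.2 i
      · intro g hg g' hg' e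
        refine Ψ.inj ?_
        rw [← hg.1.diagonal_diag, ← hg'.1.diagonal_diag]
        exact congrArg Matrix.diagonal e
    refine hfinite.subset ?_
    rintro _ ⟨z, rfl⟩
    have hzT := ((z : M).2 s hs).1
    refine ⟨hd _ hzT, fun i => ?_⟩
    show (Φ.ρ s).charpoly.IsRoot _
    obtain ⟨d, hd'⟩ : ∃ d, Ψ.ρ (((z : M) : Γ) * s * ((z : M) : Γ)⁻¹) = Matrix.diagonal d :=
      ⟨_, (Matrix.IsDiag.diagonal_diag (hd _ hzT)).symm⟩
    let u : (Matrix (Fin N) (Fin N) k)ˣ :=
      ⟨P * Φ.ρ ((z : M) : Γ), Φ.ρ (((z : M) : Γ)⁻¹) * Q, by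
        rw [mul_assoc, ← mul_assoc (Φ.ρ _) (Φ.ρ _), ← map_mul, mul_inv_cancel, map_one, one_mul,
          mul_eq_one_comm.mp hQP], by
        rw [mul_assoc, ← mul_assoc Q, hQP, one_mul, ← map_mul, inv_mul_cancel, map_one]⟩
    have e1 : (Ψ.ρ (((z : M) : Γ) * s * ((z : M) : Γ)⁻¹)).charpoly = (Φ.ρ s).charpoly := by
      rw [conj_ρ, map_mul, map_mul,
        show P * (Φ.ρ ((z : M) : Γ) * Φ.ρ s * Φ.ρ (((z : M) : Γ)⁻¹)) * Q = u.val * Φ.ρ s * u⁻¹.val by
          simp only [u, mul_assoc]; rfl,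
        Matrix.coe_units_inv, Matrix.charpoly_units_conj]
    rw [← e1, hd', Matrix.charpoly_diagonal, Polynomial.IsRoot.def, Polynomial.eval_prod]
    exact Finset.prod_eq_zero (Finset.mem_univ i) (by simp [Matrix.diagonal_apply_eq])
  have hle := Φ.le_centralizerComp (isPreconnected_map_subtype isPreconnected_connectedComponent) hcent
  have := Fintype.ofFinite (M ⧸ ΦM.identityComponent)
  refine ⟨Finset.univ.image fun q : M ⧸ ΦM.identityComponent => (q.out : Γ), fun x hx => ?_⟩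
  refine ⟨_, Finset.mem_image_of_mem _ (Finset.mem_univ ((⟨x, hx⟩ : M) : M ⧸ ΦM.identityComponent)), ?_⟩
  have h : ((⟨x, hx⟩ : M) : M ⧸ ΦM.identityComponent).out⁻¹ * (⟨x, hx⟩ : M) ∈ ΦM.identityComponent :=
    QuotientGroup.eq.1 (QuotientGroup.out_eq' _)
  exact hle ⟨_, h, rfl⟩

end Groth.Agent.Borel50.Lin.Rep
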