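import Groth.Agent.Borel50.Lin.TorusSch
import Groth.Agent.Borel50.Density
import Groth.Agent.GrpArtin.Descend
import Groth.Prelude.Def_AGF

/-!
# Subtori and toral subgroups of the rational points
-/

set_option autoImplicit false
universe u v

open CategoryTheory MonoidalCategory CartesianMonoidalCategory MonObj GrpObj AlgebraicGeometry Limits

noncomputable section

namespace Groth.Agent.Borel50.Lin

namespace Rep

variable {k : Type u} [Field k] {N : ℕ} {Γ : Type v} [Group Γ] [TopologicalSpace Γ] {Φ : Rep k Γ N}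

/-- Torsion of order prime to the characteristic is dense in a toral subgroup. -/
theorem IsToral.closure_torsion [IsAlgClosed k] {T : Subgroup Γ} (hT : Φ.IsToral T) :
    (T : Set Γ) ⊆ closure {x | x ∈ T ∧ ∃ n : ℕ, (n : k) ≠ 0 ∧ x ^ n = 1} := by
  classical
  obtain ⟨P, Q, hQP, hd⟩ := hT.diag
  have : PreconnectedSpace T := Subtype.preconnectedSpace hT.preconnected
  let Ψ := (Φ.restrict T hT.closed).conj P Q hQP
  have hdiag : ∀ x : T, Ψ.ρ x = Matrix.diagonal fun i => Ψ.ρ x i i := fun x =>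
    (Matrix.IsDiag.diagonal_diag (show (Ψ.ρ x).IsDiag from hd x x.2)).symm
  have hup : ∀ x, Ψ.ρ x ∈ fil k N 0 := fun x i j hij => by
    refine (show (Ψ.ρ x).IsDiag from hd x x.2) ?_
    intro h; subst h; omega
  have hinj : Function.Injective (Ψ.diagHom hup) := fun x y h => Ψ.inj (by
    rw [hdiag x, hdiag y]
    exact congrArg Matrix.diagonal h)
  let A : Subgroup T :=
    { carrier := {s | ∃ n : ℕ, (n : k) ≠ 0 ∧ s ^ n = 1}
      one_mem' := ⟨1, by simp, one_pow 1⟩
      mul_mem' := by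
        rintro a b ⟨n, hn, ha⟩ ⟨l, hl, hb⟩
        refine ⟨n * l, by rw [Nat.cast_mul]; exact mul_ne_zero hn hl, ?_⟩
        rw [(show Commute a b from Subtype.ext (hT.commute a.2 b.2)).mul_pow, pow_mul, ha, one_pow, _root_.one_mul,
          Nat.mul_comm, pow_mul, hb, one_pow]
      inv_mem' := by
        rintro a ⟨n, hn, ha⟩
        exact ⟨n, hn, by rw [inv_pow, ha, inv_one]⟩ }
  obtain ⟨K, hK⟩ := Ψ.exists_closure_subgroup A
  have hKcl : IsClosed (K : Set T) := hK ▸ isClosed_closure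
  let ΨK := Ψ.restrict K hKcl
  let K0 := ΨK.identityComponent
  have := ΨK.finiteIndex_identityComponent
  have := ΨK.normal_identityComponent
  have : PreconnectedSpace K0 := ΨK.preconnectedSpace_identityComponent
  let ΨK0 := ΨK.restrict K0 ΨK.isClosed_identityComponent
  obtain ⟨L, hsat, hL, -⟩ := exists_lattice Ψ hup
  obtain ⟨L', -, hL', himage'⟩ := exists_lattice ΨK0 (fun z => hup _)
  have hle : ∀ l ∈ L', l ∈ L := by
    intro l hl
    refine hsat (K0.index : ℤ) l (by exact_mod_cast Subgroup.FiniteIndex.index_ne_zero (H := K0)) ?_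
    by_contra hnot
    have hex : ∃ y, ∏ i, Ψ.diagHom hup y i ^ ((K0.index : ℤ) • l) i ≠ 1 := by
      by_contra hne
      push Not at hne
      exact hnot ((hL _).2 hne)
    obtain ⟨y, n, hn, hyn, hy⟩ := torsion_separates Ψ hup _ hex
    have hyK : y ∈ K := by
      rw [← SetLike.mem_coe, hK]
      exact subset_closure ⟨n, hn, hinj (by rw [map_pow, map_one]; exact hyn)⟩
    have h1 := (hL' l).1 hl ⟨_, Subgroup.pow_index_mem K0 ⟨y, hyK⟩⟩
    refine hy ?_
    rw [← h1]
    refine Finset.prod_congr rfl fun i _ => ?_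
    show Ψ.diagHom hup y i ^ ((K0.index : ℤ) • l) i = Ψ.diagHom hup (y ^ K0.index) i ^ l i
    rw [map_pow, Pi.pow_apply, Pi.smul_apply, smul_eq_mul, zpow_mul, zpow_natCast]
  intro x hx
  let δ : Fin N → kˣ := fun i => ((Pi.evalMonoidHom (fun _ => k) i).comp (Ψ.diagHom hup)).toHomUnits ⟨x, hx⟩
  obtain ⟨z, hz⟩ := himage' δ fun l hl => Units.ext (by
    simp only [Units.coe_prod, Units.val_zpow_eq_zpow_val, Units.val_one]
    exact (hL l).1 (hle l hl) ⟨x, hx⟩)
  have hzx : (((z : K) : T)) = ⟨x, hx⟩ := hinj (funext hz)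
  have hxK : (⟨x, hx⟩ : T) ∈ closure (A : Set T) := by
    rw [← hK, ← hzx]
    exact (z : K).2
  have := image_closure_subset_closure_image continuous_subtype_val ⟨_, hxK, rfl⟩
  refine closure_mono ?_ this
  rintro _ ⟨a, ⟨n, hn, ha⟩, rfl⟩
  exact ⟨a.2, n, hn, by rw [← SubmonoidClass.coe_pow, ha]; rfl⟩

end Rep

namespace Torus

open Groth.Agent.Borel50.Pts Groth.Agent.Borel50.Density

attribute [local instance] ptTop

variable {k : Type u} [Field k] [IsAlgClosed k] {G : Over (Spec (CommRingCat.of k))} [GrpObj G]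
  [IsAffine G.left] [Smooth G.hom]

/-- A subtorus is a closed subgroup. -/
theorem isClosedImmersion_of_torus {T : Over (Spec (CommRingCat.of k))} [GrpObj T] (iT : T ⟶ G) [IsMonHom iT]
    [Mono iT] (hT : Red.IsTorus T) : IsClosedImmersion iT.left := by
  obtain ⟨_, _, -⟩ := TorusSch.torus_facts hT
  have := FixedPt.qc_G G
  have : IsAffineHom (iT.left ≫ G.hom) := by rw [Over.w iT]; exact isAffineHom_of_isAffine _
  have : QuasiCompact iT.left := inferInstance
  exact GrpArtin.Descend.isClosedImmersion_of_mono iT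

/-- The rational points of a subtorus form a toral subgroup. -/
theorem isToral_range {N : ℕ} (Φ : Rep k (Pt G) N) {T : Over (Spec (CommRingCat.of k))} [GrpObj T] (iT : T ⟶ G)
    [IsMonHom iT] [Mono iT] (hT : Red.IsTorus T) : Φ.IsToral (ptHom iT).range := by
  obtain ⟨_, _, _, _, hcomm, hdense⟩ := TorusSch.torus_facts hT
  have := isClosedImmersion_of_torus iT hT
  refine ⟨Density.isClosed_range iT, Density.isPreconnected_range iT, ?_⟩
  obtain ⟨P, Q, hQP, hd⟩ := Φ.exists_diag_closure ((fun x => x ≫ iT) '' {x : Pt T | ∃ n : ℕ, (n : k) ≠ 0 ∧ x ^ n = 1})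
    (by
      rintro _ ⟨x, -, rfl⟩ _ ⟨y, -, rfl⟩
      show ptHom iT x * ptHom iT y = ptHom iT y * ptHom iT x
      rw [← map_mul, hcomm, map_mul])
    (by
      rintro _ ⟨x, ⟨n, hn, hxn⟩, rfl⟩
      exact ⟨n, hn, show ptHom iT x ^ n = 1 by rw [← map_pow, hxn, map_one]⟩)
  refine ⟨P, Q, hQP, ?_⟩
  rintro _ ⟨x, rfl⟩
  refine hd _ (image_closure_subset_closure_image (continuous_comp iT) ⟨x, ?_, rfl⟩)
  rw [hdense]
  trivial

variable [ConnectedSpace G.left]

/-- A toral subgroup is the group of rational points of a subtorus. -/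
theorem exists_torus {N : ℕ} {Φ : Rep k (Pt G) N} {T : Subgroup (Pt G)} (hT : Φ.IsToral T) :
    ∃ (K : Over (Spec (CommRingCat.of k))) (_ : GrpObj K) (i : K ⟶ G) (_ : IsMonHom i) (_ : Mono i),
      IsClosedImmersion i.left ∧ Red.IsTorus K ∧ (ptHom i).range = T := by
  have := FixedPt.qc_G G
  obtain ⟨K, _, i, _, _, _, _, hmem, hconn⟩ := exists_sub T hT.closed
  have := hconn hT.preconnected
  have : IsAffine K.left := isAffine_of_isAffineHom i.left
  have : Mono i := Over.mono_of_mono_left i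
  have hr : (ptHom i).range = T :=
    le_antisymm (by rintro _ ⟨h, rfl⟩; exact (hmem _).2 ⟨h, rfl⟩) fun x hx => (hmem x).1 hx
  refine ⟨K, ‹_›, i, ‹_›, ‹_›, ‹_›, ?_, hr⟩
  have hind : Topology.IsInducing (fun x : Pt K => x ≫ i) :=
    ⟨by
      show TopologicalSpace.induced pt inferInstance =
        TopologicalSpace.induced (fun x : Pt K => x ≫ i) (TopologicalSpace.induced pt inferInstance)
      rw [induced_compose, show (pt ∘ fun x : Pt K => x ≫ i) = (i.left.base : K.left → G.left) ∘ pt from rfl,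
        ← induced_compose, ← i.left.isClosedEmbedding.isInducing.eq_induced]⟩
  refine TorusSch.isTorus_of_points {x : Pt K | ∃ n : ℕ, (n : k) ≠ 0 ∧ x ^ n = 1}
    (fun x _ y _ => ptHom_injective i (by
      rw [map_mul, map_mul]
      exact hT.commute ((hmem _).2 ⟨x, rfl⟩) ((hmem _).2 ⟨y, rfl⟩)))
    (fun x hx => hx) (Set.eq_univ_of_forall fun x => ?_)
  rw [hind.closure_eq_preimage_closure_image, Set.mem_preimage]
  refine closure_mono ?_ (hT.closure_torsion ((hmem _).2 ⟨x, rfl⟩))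
  rintro y ⟨hy, n, hn, hyn⟩
  obtain ⟨z, rfl⟩ := (hmem y).1 hy
  exact ⟨z, ⟨n, hn, ptHom_injective i (by rw [map_pow, map_one]; exact hyn)⟩, rfl⟩

/-- The rational points of a maximal torus form a maximal toral subgroup. -/
theorem maximal_range {N : ℕ} (Φ : Rep k (Pt G) N) {T : Over (Spec (CommRingCat.of k))} [GrpObj T] {iT : T ⟶ G}
    [IsMonHom iT] (hT : AGF.IsMaxTorus iT) :
    Φ.IsToral (ptHom iT).range ∧ ∀ T', Φ.IsToral T' → (ptHom iT).range ≤ T' → T' = (ptHom iT).range := by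
  obtain ⟨-, _, hTor, hmax⟩ := hT
  refine ⟨isToral_range Φ iT hTor, fun T' hT' hle => ?_⟩
  obtain ⟨_, _, _, _, -, -⟩ := TorusSch.torus_facts hTor
  obtain ⟨K, _, j, _, _, _, hK, hr⟩ := exists_torus hT'
  have : IsSeparated G.hom := GrpScheme.IdComponent.isSeparated G
  have := GrpScheme.HomFlat.isReduced_of_smooth T.hom
  obtain ⟨f, hf⟩ := Pts.factor_of_points iT j fun x => by
    obtain ⟨z, hz⟩ := (hr.symm ▸ hle ⟨x, rfl⟩ : x ≫ iT ∈ (ptHom j).range)
    exact mem_range_of_factor hz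
  have := hmax K j f hK hf
  refine le_antisymm ?_ hle
  rw [← hr]
  rintro _ ⟨z, rfl⟩
  exact ⟨z ≫ inv f, show (z ≫ inv f) ≫ iT = z ≫ j by rw [← hf]; simp⟩

end Torus

end Groth.Agent.Borel50.Lin
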