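import Groth.Agent.Borel50.Lin.Diag
import Groth.Agent.LieKolchin.Points
import Groth.Agent.UnipLib.Chars
import Groth.Agent.UnipLib.Torus
import Groth.Agent.MultType.Diag
import Mathlib.LinearAlgebra.LinearIndependent.Lemmas

/-!
# Diagonalisable Hopf algebras over an algebraically closed field
-/

set_option autoImplicit false
set_option linter.style.haveILetI false
universe u

open WithConv
open scoped TensorProduct Pointwise

noncomputable section

namespace Groth.Agent.Borel50.Lin.TorusAlg

open Groth.Agent.UnipLib (rho)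
open Groth.Agent.LieKolchin (Pts evalAt)

variable {k : Type u} [Field k] [IsAlgClosed k] {A : Type u} [CommRing A] [HopfAlgebra k A]
  [Algebra.FiniteType k A]

attribute [local instance] LieKolchin.zariski

/-- A diagonalisable domain is a Laurent polynomial algebra. -/
theorem exists_laurent [IsDomain A] (h : Submodule.span k {a : A | IsGroupLikeElem k a} = ⊤) :
    ∃ m : ℕ, Nonempty (MonoidAlgebra k (Multiplicative (Fin m → ℤ)) ≃ₐc[k] A) := by
  let E := MultType.Diag.equivOfSpan h
  haveI : Group.FG (GroupLike k A) :=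
    MultType.Diag.group_fg_of_finiteType ((E.symm : A ≃ₐc[k] _).toAlgEquiv)
  haveI : IsAddTorsionFree (Additive (GroupLike k A)) := by
    refine ⟨fun n hn x y hxy => ?_⟩
    have h1 : Additive.toMul x ^ n = Additive.toMul y ^ n := congrArg Additive.toMul hxy
    have h2 : (Additive.toMul x * (Additive.toMul y)⁻¹) ^ n = 1 := by rw [mul_pow, inv_pow, h1, mul_inv_cancel]
    have h3 : (Additive.toMul x * (Additive.toMul y)⁻¹).val ^ n = 1 := by
      have h' := congrArg GroupLike.val h2
      simpa using h'
    have h4 : Additive.toMul x * (Additive.toMul y)⁻¹ = 1 :=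
      GroupLike.ext (UnipLib.eq_one_of_pow_eq_one (Additive.toMul x * (Additive.toMul y)⁻¹).isGroupLikeElem_val hn h3)
    exact Additive.toMul.injective (mul_inv_eq_one.1 h4)
  haveI : Module.Finite ℤ (Additive (GroupLike k A)) := Module.Finite.iff_addGroup_fg.2 inferInstance
  haveI : Module.Free ℤ (Additive (GroupLike k A)) := Module.free_of_finite_type_torsion_free'
  refine ⟨Module.finrank ℤ (Additive (GroupLike k A)), ⟨?_⟩⟩
  let e := (Module.finBasis ℤ (Additive (GroupLike k A))).equivFun.toAddEquiv
  let g : Multiplicative (Fin (Module.finrank ℤ (Additive (GroupLike k A))) → ℤ) ≃* GroupLike k A :=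
    (AddEquiv.toMultiplicative e.symm).trans
      { toFun := fun x => Additive.toMul (Multiplicative.toAdd x)
        invFun := fun x => Multiplicative.ofAdd (Additive.ofMul x)
        left_inv := fun x => rfl
        right_inv := fun x => rfl
        map_mul' := fun x y => rfl }
  exact (MonoidAlgebra.domCongrBialgEquiv (R := k) (A := k) g).trans E

/-- Evaluation of a point at group-like elements. -/
def chars {M : Type} [CommGroup M] (L : MonoidAlgebra k M ≃ₐc[k] A) : Pts k A →* (M →* k) where
  toFun x :=
    { toFun := fun z => x.ofConv (L (MonoidAlgebra.single z 1))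
      map_one' := by rw [← MonoidAlgebra.one_def, map_one, map_one]
      map_mul' := fun a b => by
        rw [← map_mul, ← map_mul, MonoidAlgebra.single_mul_single, _root_.mul_one] }
  map_one' := MonoidHom.ext fun z => by
    show (1 : Pts k A) (L (MonoidAlgebra.single z 1)) = 1
    rw [AlgHom.convOne_apply, ((MonoidAlgebra.isGroupLikeElem_single_one z).map L).counit_eq_one, map_one]
  map_mul' x y := MonoidHom.ext fun z => by
    show (x * y) (L (MonoidAlgebra.single z 1)) = x (L (MonoidAlgebra.single z 1)) * y (L (MonoidAlgebra.single z 1))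
    rw [AlgHom.convMul_apply, ((MonoidAlgebra.isGroupLikeElem_single_one z).map L).comul_eq_tmul_self,
      Algebra.TensorProduct.lift_tmul]

lemma chars_injective {M : Type} [CommGroup M] (L : MonoidAlgebra k M ≃ₐc[k] A) :
    Function.Injective (chars L) := by
  intro x y h
  refine WithConv.ofConv_injective (AlgHom.ext fun a => ?_)
  obtain ⟨p, rfl⟩ := EquivLike.surjective L a
  induction p using MonoidAlgebra.induction_linear with
  | zero => simp
  | add p q hp hq => simp only [map_add, hp, hq]
  | single z r =>
    rw [show MonoidAlgebra.single z r = r • MonoidAlgebra.single z (1 : k) by simp, map_smul, map_smul, map_smul]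
    congr 1
    exact DFunLike.congr_fun h z

/-- The torsion points of order prime to the characteristic are dense in a torus. -/
theorem closure_torsion {m : ℕ} (L : MonoidAlgebra k (Multiplicative (Fin m → ℤ)) ≃ₐc[k] A) :
    closure {x : Pts k A | ∃ n : ℕ, (n : k) ≠ 0 ∧ x ^ n = 1} = Set.univ := by
  classical
  let M := Multiplicative (Fin m → ℤ)
  let S : Submonoid (M →* kˣ) :=
    { carrier := {c | ∃ n : ℕ, (n : k) ≠ 0 ∧ c ^ n = 1}
      mul_mem' := by
        rintro a b ⟨n, hn, ha⟩ ⟨l, hl, hb⟩
        refine ⟨n * l, by rw [Nat.cast_mul]; exact mul_ne_zero hn hl, ?_⟩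
        refine MonoidHom.ext fun z => ?_
        have ha' : a z ^ n = 1 := DFunLike.congr_fun ha z
        have hb' : b z ^ l = 1 := DFunLike.congr_fun hb z
        show (a z * b z) ^ (n * l) = 1
        rw [mul_pow, pow_mul, ha', one_pow, _root_.mul_comm n l, pow_mul, hb', one_pow, _root_.mul_one]
      one_mem' := ⟨1, by simp, MonoidHom.ext fun z => one_pow 1⟩ }
  let χ : M → (S →* k) := fun z =>
    { toFun := fun c => (((c : M →* kˣ) z : kˣ) : k)
      map_one' := by simp
      map_mul' := fun a b => by simp }
  have hχ : Function.Injective χ := by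
    intro z z' h
    by_contra hne
    obtain ⟨i, hi⟩ : ∃ i, Multiplicative.toAdd z i ≠ Multiplicative.toAdd z' i := by
      by_contra hall
      push Not at hall
      exact hne (Multiplicative.toAdd.injective (funext hall))
    let p := ringChar k
    obtain ⟨ℓ, hℓ, hℓp⟩ := Nat.exists_infinite_primes
      (max (p + 1) ((Multiplicative.toAdd z i - Multiplicative.toAdd z' i).natAbs + 1))
    have hℓk : (ℓ : k) ≠ 0 := by
      intro h0
      rw [ringChar.spec] at h0
      rcases (Nat.Prime.eq_one_or_self_of_dvd hℓp _ h0) with h1 | h1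
      · exact CharP.ringChar_ne_one h1
      · have := le_max_left (p + 1) ((Multiplicative.toAdd z i - Multiplicative.toAdd z' i).natAbs + 1)
        simp only [p] at this hℓ
        omega
    haveI : NeZero (ℓ : k) := ⟨hℓk⟩
    obtain ⟨ζ, hζ⟩ := HasEnoughRootsOfUnity.exists_primitiveRoot k ℓ
    let u : kˣ := (hζ.isUnit hℓp.ne_zero).unit
    let c : M →* kˣ :=
      (zpowersHom kˣ u).comp (AddMonoidHom.toMultiplicative (Pi.evalAddMonoidHom (fun _ : Fin m => ℤ) i))
    have hc : c ∈ S := ⟨ℓ, hℓk, MonoidHom.ext fun w => by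
      show (u ^ (Multiplicative.toAdd w i)) ^ ℓ = 1
      rw [← zpow_natCast, ← zpow_mul, _root_.mul_comm, zpow_mul, zpow_natCast,
        show u ^ ℓ = 1 from Units.ext (by simpa [u] using hζ.pow_eq_one), one_zpow]⟩
    have h1 : ((u ^ (Multiplicative.toAdd z i) : kˣ) : k) = ((u ^ (Multiplicative.toAdd z' i) : kˣ) : k) :=
      DFunLike.congr_fun h ⟨c, hc⟩
    have h2 : u ^ (Multiplicative.toAdd z i - Multiplicative.toAdd z' i) = 1 := by
      rw [zpow_sub, Units.ext h1, mul_inv_cancel]
    have hu : IsPrimitiveRoot u ℓ := IsPrimitiveRoot.coe_units_iff.1 (by simpa [u] using hζ)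
    have h3 := (hu.zpow_eq_one_iff_dvd _).1 h2
    have h4 := Int.natAbs_dvd_natAbs.2 h3
    have h5 := le_max_right (p + 1) ((Multiplicative.toAdd z i - Multiplicative.toAdd z' i).natAbs + 1)
    have h6 : (Multiplicative.toAdd z i - Multiplicative.toAdd z' i).natAbs ≠ 0 := by
      simp [sub_eq_zero, hi]
    have := Nat.le_of_dvd (Nat.pos_of_ne_zero h6) (by simpa using h4)
    omega
  have hli := (linearIndependent_monoidHom S k).comp χ hχ
  refine Set.eq_univ_of_forall fun x => ?_
  rw [(Topology.IsInducing.induced LieKolchin.toPrime).closure_eq_preimage_closure_image, Set.mem_preimage,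
    ← PrimeSpectrum.zeroLocus_vanishingIdeal_eq_closure, PrimeSpectrum.mem_zeroLocus]
  intro a ha
  obtain ⟨q, rfl⟩ := EquivLike.surjective L a
  suffices hq : q = 0 by simp [hq]
  have hlin : ∀ c : S, Finsupp.linearCombination k (fun z => (χ z : S → k)) q.coeff c = 0 := by
    intro c
    let s : Pts k A := toConv ((MonoidAlgebra.lift k k M ((Units.coeHom k).comp (c : M →* kˣ))).comp
      (L.symm : A →ₐc[k] MonoidAlgebra k M).toAlgHom)
    have hs : ∀ r, s.ofConv (L r) = MonoidAlgebra.lift k k M ((Units.coeHom k).comp (c : M →* kˣ)) r := fun r => by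
      show MonoidAlgebra.lift k k M ((Units.coeHom k).comp (c : M →* kˣ)) (L.symm (L r)) = _
      rw [L.symm_apply_apply]
    obtain ⟨n, hn, hcn⟩ := c.2
    have hsn : s ^ n = 1 := chars_injective L <| MonoidHom.ext fun z => by
      rw [map_pow, map_one]
      show (s.ofConv (L (MonoidAlgebra.single z 1))) ^ n = 1
      rw [hs, MonoidAlgebra.lift_single, one_smul]
      have := congrArg Units.val (DFunLike.congr_fun hcn z)
      simpa using this
    have h0 : s.ofConv (L q) = 0 := by
      have := (PrimeSpectrum.mem_vanishingIdeal _ _).1 ha (LieKolchin.toPrime s) ⟨s, ⟨n, hn, hsn⟩, rfl⟩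
      exact this
    rw [hs, MonoidAlgebra.lift_apply] at h0
    rw [Finsupp.linearCombination_apply]
    simpa [Finsupp.sum, Finset.sum_apply, χ] using h0
  exact MonoidAlgebra.coeff_injective (hli.finsuppLinearCombination_injective
    ((funext hlin).trans (map_zero _).symm))

variable [IsReduced A]

/-- A group with dense commuting torsion of order prime to the characteristic is diagonalisable. -/
theorem span_of_dense (S : Set (Pts k A)) (hcomm : ∀ x ∈ S, ∀ y ∈ S, x * y = y * x)
    (htor : ∀ x ∈ S, ∃ n : ℕ, (n : k) ≠ 0 ∧ x ^ n = 1) (hS : closure S = Set.univ) :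
    Submodule.span k {a : A | IsGroupLikeElem k a} = ⊤ := by
  classical
  obtain ⟨s, hs⟩ := (inferInstance : Algebra.FiniteType k A).out
  obtain ⟨V, hVfin, hsV, hV⟩ := UnipLib.exists_stable (k := k) s
  let N := Module.finrank k V
  let b : Module.Basis (Fin N) k V := Module.finBasis k V
  let f : Pts k A → Module.End k V := fun g => (rho g.ofConv).toLinearMap.restrict (hV g.ofConv)
  have hf1 : f 1 = 1 := LinearMap.ext fun v => Subtype.ext <| by
    refine UnipLib.ext_pts (k := k) fun x => ?_
    show x (rho _ (v : A)) = x v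
    rw [UnipLib.pt_rho_self, toConv_ofConv, _root_.mul_one]
  have hfm : ∀ g h, f (g * h) = f g * f h := fun g h => LinearMap.ext fun v => Subtype.ext <| by
    show rho (g * h).ofConv (v : A) = rho g.ofConv (rho h.ofConv (v : A))
    rw [UnipLib.rho_mul, toConv_ofConv, toConv_ofConv]
  let R : Pts k A →* Matrix (Fin N) (Fin N) k :=
    { toFun := fun g => LinearMap.toMatrixAlgEquiv b (f g)
      map_one' := by rw [hf1, map_one]
      map_mul' := fun g h => by rw [hfm, map_mul] }
  obtain ⟨P, Q, hQP, hd⟩ := exists_diagonalize (R '' S)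
    (by rintro _ ⟨x, hx, rfl⟩ _ ⟨y, hy, rfl⟩; rw [← map_mul, ← map_mul, hcomm x hx y hy])
    (by
      rintro _ ⟨x, hx, rfl⟩
      obtain ⟨n, hn, hxn⟩ := htor x hx
      refine ⟨Polynomial.X ^ n - 1, ?_, ?_⟩
      · simpa using (Polynomial.separable_X_pow_sub_C (1 : k) hn one_ne_zero).squarefree
      · rw [map_sub, map_one, Polynomial.aeval_X_pow, ← map_pow, hxn, map_one, sub_self])
  let w : Fin N → V := fun j => b.equivFun.symm fun i => Q i j
  have hw : ∀ x ∈ S, ∀ j, ∃ c : k, rho x.ofConv (w j : A) = c • (w j : A) := by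
    intro x hx j
    have hdj := hd _ ⟨x, hx, rfl⟩
    refine ⟨(P * R x * Q) j j, ?_⟩
    have h1 : f x (w j) = (P * R x * Q) j j • w j := by
      apply b.equivFun.injective
      rw [map_smul, show b.equivFun (w j) = fun i => Q i j from b.equivFun.apply_symm_apply _]
      have h2 : b.equivFun (f x (w j)) = (R x).mulVec (b.equivFun (w j)) := by
        funext i
        exact (congrFun (LinearMap.toMatrix_mulVec_repr b b (f x) (w j)) i).symm
      rw [h2, show b.equivFun (w j) = fun i => Q i j from b.equivFun.apply_symm_apply _]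
      funext i
      have h3 : (R x * Q) i j = (Q * (P * R x * Q)) i j := by
        rw [← Matrix.mul_assoc, ← Matrix.mul_assoc, hQP, Matrix.one_mul]
      calc ((R x).mulVec fun i => Q i j) i = (R x * Q) i j := rfl
        _ = (Q * (P * R x * Q)) i j := h3
        _ = _ := by
          rw [← hdj.diagonal_diag, Matrix.mul_diagonal]
          simp [Matrix.diagonal, _root_.mul_comm]
    exact congrArg Subtype.val h1
  let cnt := Bialgebra.counitAlgHom k A
  have hone : (1 : Pts k A) = toConv cnt := WithConv.ofConv_injective (AlgHom.ext fun a => rfl)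
  have hmul : ∀ j, ∀ x g : Pts k A,
      (x * g).ofConv (w j : A) * cnt (w j : A) = g.ofConv (w j : A) * x.ofConv (w j : A) := by
    intro j x
    let α : WithConv (A →ₐ[k] A) := toConv ((Algebra.ofId k A).comp x.ofConv) * toConv (AlgHom.id k A)
    let a : A := cnt (w j : A) • α.ofConv (w j : A) - x.ofConv (w j : A) • (w j : A)
    have hga : ∀ g : Pts k A, g.ofConv a =
        (x * g).ofConv (w j : A) * cnt (w j : A) - g.ofConv (w j : A) * x.ofConv (w j : A) := fun g => by
      have : g.ofConv (α.ofConv (w j : A)) = (x * g).ofConv (w j : A) := by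
        have h : evalAt g α = x * g := by rw [map_mul, LieKolchin.evalAt_const, LieKolchin.evalAt_id]
        rw [← h]; rfl
      rw [map_sub, map_smul, map_smul, this, smul_eq_mul, smul_eq_mul]
      ring
    intro g
    rw [← sub_eq_zero, ← hga]
    have hg : g ∈ closure S := by rw [hS]; trivial
    refine closure_minimal (fun s hs => ?_) (LieKolchin.isClosed_setOf_eq a 0) hg
    obtain ⟨c, hc⟩ := hw s hs j
    show s.ofConv a = 0
    have h1 : ∀ y : Pts k A, (y * s).ofConv (w j : A) = c * y.ofConv (w j : A) := fun y => by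
      have := UnipLib.pt_rho_self y.ofConv s.ofConv (w j : A)
      rw [hc, map_smul, smul_eq_mul, toConv_ofConv, toConv_ofConv] at this
      exact this.symm
    have h2 : s.ofConv (w j : A) = c * cnt (w j : A) := by
      have := h1 1
      rwa [_root_.one_mul, hone] at this
    rw [hga, h1, h2]
    ring
  have hwne : ∀ j, (w j : A) ≠ 0 := by
    intro j h0
    have h1 : (fun i => Q i j) = (0 : Fin N → k) := by
      have h2 : w j = 0 := Subtype.ext h0
      have := congrArg b.equivFun h2
      rwa [map_zero, show b.equivFun (w j) = fun i => Q i j from b.equivFun.apply_symm_apply _] at this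
    have hPQ : P * Q = 1 := mul_eq_one_comm.mp hQP
    have h3 := congrFun (congrFun hPQ j) j
    rw [Matrix.mul_apply, Finset.sum_eq_zero fun i _ => by rw [congrFun h1 i]; simp, Matrix.one_apply_eq] at h3
    exact zero_ne_one h3
  have hcnt : ∀ j, cnt (w j : A) ≠ 0 := by
    intro j h0
    refine hwne j (UnipLib.eq_zero_of_forall (k := k) fun g => ?_)
    have := hmul j (toConv g) (toConv g)
    rw [h0, mul_zero] at this
    exact mul_self_eq_zero.1 this.symm
  have hgl : ∀ j, IsGroupLikeElem k ((cnt (w j : A))⁻¹ • (w j : A)) := by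
    intro j
    refine UnipLib.isGroupLikeElem_of_forall ?_ fun x y => ?_
    · rw [← Bialgebra.counitAlgHom_apply, map_smul, smul_eq_mul, inv_mul_cancel₀ (hcnt j)]
    · show (x * y).ofConv _ = x.ofConv _ * y.ofConv _
      rw [map_smul, map_smul, map_smul, smul_eq_mul, smul_eq_mul, smul_eq_mul]
      have := hmul j x y
      field_simp [hcnt j]
      linear_combination this
  set G := Submodule.span k {a : A | IsGroupLikeElem k a} with hG
  have hVG : ∀ v : V, (v : A) ∈ G := by
    intro v
    have hv : b.equivFun v = Q.mulVec (P.mulVec (b.equivFun v)) := by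
      rw [Matrix.mulVec_mulVec, hQP, Matrix.one_mulVec]
    have hv' : v = ∑ j, P.mulVec (b.equivFun v) j • w j := by
      apply b.equivFun.injective
      rw [map_sum]
      funext i
      rw [Finset.sum_apply]
      conv_lhs => rw [hv]
      show ∑ j, Q i j * (P.mulVec (b.equivFun v)) j = _
      refine Finset.sum_congr rfl fun j _ => ?_
      rw [map_smul, Pi.smul_apply, show b.equivFun (w j) = fun i => Q i j from b.equivFun.apply_symm_apply _,
        smul_eq_mul, _root_.mul_comm]
    rw [hv', Submodule.coe_sum]
    refine G.sum_mem fun j _ => ?_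
    rw [Submodule.coe_smul]
    refine G.smul_mem _ ?_
    rw [← smul_inv_smul₀ (hcnt j) (w j : A)]
    exact G.smul_mem _ (Submodule.subset_span (hgl j))
  let Gs : Subalgebra k A := G.toSubalgebra (Submodule.subset_span IsGroupLikeElem.one) fun x y hx hy => by
    rw [hG] at hx hy ⊢
    refine Submodule.span_le.2 ?_ (show x * y ∈ Submodule.span k ({a : A | IsGroupLikeElem k a} * {a : A | IsGroupLikeElem k a}) by
      rw [← Submodule.span_mul_span]; exact Submodule.mul_mem_mul hx hy)
    rintro _ ⟨p, hp, q, hq, rfl⟩
    exact Submodule.subset_span (hp.mul hq)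
  have htop : (⊤ : Subalgebra k A) ≤ Gs := by
    rw [← hs]
    exact Algebra.adjoin_le fun a ha => hVG ⟨a, hsV ha⟩
  exact eq_top_iff.2 fun a _ => htop (Algebra.mem_top : a ∈ (⊤ : Subalgebra k A))

end Groth.Agent.Borel50.Lin.TorusAlg
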