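import Groth.Agent.Borel50.Lin.Lift

/-!
# Triangularisation of connected solvable groups and central tori
-/

set_option autoImplicit false
universe u v w

open MvPolynomial

noncomputable section

namespace Groth.Agent.Borel50.Lin

open Groth.Agent.LieKolchin (GoodTop Adm quotRep exists_common_eigen)
open scoped commutatorElement Matrix

variable {k : Type u} [Field k] {N : ℕ}

/-- A representation of a connected solvable group has an invariant flag. -/
theorem exists_flag [IsAlgClosed k] {G : Type v} [Group G] [TopologicalSpace G] [PreconnectedSpace G]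
    (hG : GoodTop G) {n : ℕ} (hn : derivedSeries G n = ⊥) : ∀ (d : ℕ) (V : Type w) [AddCommGroup V] [Module k V]
    [FiniteDimensional k V] (ρ : G →* Module.End k V), Adm ρ → Module.finrank k V = d →
    ∃ w : Fin d → V, Submodule.span k (Set.range w) = ⊤ ∧
      ∀ x j, ρ x (w j) ∈ Submodule.span k (w '' Set.Iic j) := by
  intro d
  induction d with
  | zero =>
    intro V _ _ _ ρ _ hd
    have := Module.finrank_zero_iff.1 hd
    exact ⟨Fin.elim0, Subsingleton.elim _ _, fun x j => j.elim0⟩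
  | succ d ih =>
    intro V _ _ _ ρ hρ hd
    have : Nontrivial V := Module.nontrivial_of_finrank_eq_succ hd
    obtain ⟨v, hv0, hv⟩ := exists_common_eigen n G hG hn V ρ hρ
    let L := Submodule.span k {v}
    have hL : ∀ x, ∀ w ∈ L, ρ x w ∈ L := fun x w hw => by
      obtain ⟨r, rfl⟩ := Submodule.mem_span_singleton.1 hw
      rw [map_smul]
      exact Submodule.smul_mem _ _ (hv x)
    have hq : Adm (quotRep ρ L hL) := fun a f c => by
      obtain ⟨a, rfl⟩ := L.mkQ_surjective a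
      exact hρ a (f ∘ₗ L.mkQ) c
    have hdim : Module.finrank k (V ⧸ L) = d := by
      have h1 := Submodule.finrank_quotient_add_finrank L
      rw [finrank_span_singleton hv0] at h1
      omega
    obtain ⟨w', hw'sp, hw'⟩ := ih (V ⧸ L) (quotRep ρ L hL) hq hdim
    choose u hu using fun j => L.mkQ_surjective (w' j)
    refine ⟨Fin.cons v u, ?_, ?_⟩
    · rw [eq_top_iff]
      intro z _
      have hz : L.mkQ z ∈ (Submodule.span k (Set.range u)).map L.mkQ := by
        rw [Submodule.map_span, ← Set.range_comp, show L.mkQ ∘ u = w' from funext hu, hw'sp]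
        trivial
      obtain ⟨z', hz', hzz⟩ := Submodule.mem_map.1 hz
      have h2 : z - z' ∈ L := (Submodule.Quotient.eq L).1 hzz.symm
      rw [← add_sub_cancel z' z]
      refine add_mem (Submodule.span_mono ?_ hz') (Submodule.span_mono ?_ h2)
      · rintro _ ⟨i, rfl⟩; exact ⟨i.succ, Fin.cons_succ _ _ _⟩
      · rintro _ rfl; exact ⟨0, Fin.cons_zero _ _⟩
    · intro x j
      have hLj : L ≤ Submodule.span k ((Fin.cons v u : Fin (d + 1) → V) '' Set.Iic j) :=
        Submodule.span_mono (by rintro _ rfl; exact ⟨0, Fin.zero_le j, Fin.cons_zero _ _⟩)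
      induction j using Fin.cases with
      | zero => rw [Fin.cons_zero]; exact hLj (hv x)
      | succ j =>
        rw [Fin.cons_succ]
        have hz : L.mkQ (ρ x (u j)) ∈ (Submodule.span k (u '' Set.Iic j)).map L.mkQ := by
          rw [Submodule.map_span, ← Set.image_comp, show L.mkQ ∘ u = w' from funext hu]
          have := hw' x j
          rw [← hu] at this
          exact this
        obtain ⟨z', hz', hzz⟩ := Submodule.mem_map.1 hz
        have h2 : ρ x (u j) - z' ∈ L := (Submodule.Quotient.eq L).1 hzz.symm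
        rw [← add_sub_cancel z' (ρ x (u j))]
        refine add_mem (Submodule.span_mono ?_ hz') (hLj h2)
        rintro _ ⟨i, hi, rfl⟩
        exact ⟨i.succ, Fin.succ_le_succ_iff.2 hi, Fin.cons_succ _ _ _⟩

variable {Γ : Type v} [Group Γ] [TopologicalSpace Γ] (Φ : Rep k Γ N)

/-- A connected solvable group is triangular in some basis. -/
theorem Rep.exists_upper [IsAlgClosed k] [PreconnectedSpace Γ] {n : ℕ} (hn : derivedSeries Γ n = ⊥) :
    ∃ P Q : Matrix (Fin N) (Fin N) k, Q * P = 1 ∧ ∀ x, P * Φ.ρ x * Q ∈ fil k N 0 := by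
  classical
  let τ : Γ →* Module.End k (Fin N → k) :=
    (Matrix.toLinAlgEquiv' : Matrix (Fin N) (Fin N) k ≃ₐ[k] _).toAlgHom.toMonoidHom.comp Φ.ρ
  have hadm : Adm τ := by
    intro v f c
    let p : MvPolynomial (Fin N × Fin N) k :=
      (∑ i, ∑ j, C (f (Pi.single i 1) * v j) * X (i, j)) - C c
    have e : {x : Γ | f (τ x v) = c} = {x | ev p (Φ.ρ x) = 0} := by
      ext x
      have h1 : f (τ x v) = ∑ i, ∑ j, f (Pi.single i 1) * v j * Φ.ρ x i j := by
        show f (Φ.ρ x *ᵥ v) = _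
        conv_lhs => rw [← Finset.univ_sum_single (Φ.ρ x *ᵥ v), map_sum]
        refine Finset.sum_congr rfl fun i _ => ?_
        rw [show (Pi.single i ((Φ.ρ x *ᵥ v) i) : Fin N → k) = (Φ.ρ x *ᵥ v) i • Pi.single i (1 : k) by
          rw [← Pi.single_smul]; simp, map_smul, smul_eq_mul, Matrix.mulVec, dotProduct, Finset.sum_mul]
        exact Finset.sum_congr rfl fun j _ => by ring
      simp [p, ev, h1, sub_eq_zero]
    rw [e]
    exact Φ.isClosed_ev p
  obtain ⟨w, hsp, hw⟩ := exists_flag Φ.good hn N (Fin N → k) τ hadm (Module.finrank_fin_fun k)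
  let β := basisOfTopLeSpanOfCardEqFinrank w hsp.ge (by simp)
  have hβ : ⇑β = w := coe_basisOfTopLeSpanOfCardEqFinrank _ _ _
  refine ⟨β.toMatrix (Pi.basisFun k (Fin N)), (Pi.basisFun k (Fin N)).toMatrix β,
    (Pi.basisFun k (Fin N)).toMatrix_mul_toMatrix_flip β, fun x => ?_⟩
  have h1 : LinearMap.toMatrix (Pi.basisFun k (Fin N)) (Pi.basisFun k (Fin N)) (τ x) = Φ.ρ x := by
    rw [LinearMap.toMatrix_eq_toMatrix']
    exact LinearMap.toMatrix'_toLin' _
  rw [← h1, basis_toMatrix_mul_linearMap_toMatrix_mul_basis_toMatrix]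
  intro i j hij
  rw [LinearMap.toMatrix_apply]
  have h2 : τ x (β j) ∈ Submodule.span k (β '' Set.Iic j) := by rw [hβ]; exact hw x j
  by_contra h
  have := (β.mem_span_image.1 h2) (Finsupp.mem_support_iff.2 h)
  simp only [Set.mem_Iic, Fin.le_def] at this
  omega

/-- A triangular group whose diagonal is covered by central elements is nilpotent. -/
theorem Rep.upperCentralSeries_eq_top (hup : ∀ x, Φ.ρ x ∈ fil k N 0) (T : Subgroup Γ)
    (hc : ∀ t ∈ T, ∀ x, t * x = x * t) (hcov : ∀ x, ∃ t ∈ T, Φ.diagHom hup t = Φ.diagHom hup x) :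
    Subgroup.upperCentralSeries Γ (N + 1) = ⊤ := by
  have hdec : ∀ x, ∃ t ∈ T, ∃ u ∈ Φ.unipotent hup 1, x = t * u := fun x => by
    obtain ⟨t, ht, he⟩ := hcov x
    refine ⟨t, ht, t⁻¹ * x, Φ.mem_unipotent_of_diag ?_, (mul_inv_cancel_left t x).symm⟩
    rw [map_mul, ← he, ← map_mul, inv_mul_cancel, map_one]
  have hstep : ∀ (m : ℕ) (a : Γ), a ∈ Φ.unipotent hup m → ∀ u ∈ Φ.unipotent hup 1,
      ⁅a, u⁆ ∈ Φ.unipotent hup (m + 1) := by
    intro m a ha u hu
    show Φ.ρ ⁅a, u⁆ - 1 ∈ fil k N (m + 1)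
    have e : Φ.ρ ⁅a, u⁆ - 1 =
        ((Φ.ρ a - 1) * (Φ.ρ u - 1) - (Φ.ρ u - 1) * (Φ.ρ a - 1)) * Φ.ρ (a⁻¹ * u⁻¹) := by
      have h1 : Φ.ρ u * Φ.ρ a * Φ.ρ (a⁻¹ * u⁻¹) = 1 := by
        rw [← map_mul, ← map_mul, show u * a * (a⁻¹ * u⁻¹) = 1 by group, map_one]
      rw [commutatorElement_def, show a * u * a⁻¹ * u⁻¹ = a * u * (a⁻¹ * u⁻¹) by group,
        show (Φ.ρ a - 1) * (Φ.ρ u - 1) - (Φ.ρ u - 1) * (Φ.ρ a - 1) = Φ.ρ a * Φ.ρ u - Φ.ρ u * Φ.ρ a by
          noncomm_ring, sub_mul, h1, map_mul, map_mul]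
    rw [e]
    refine fil_mono (le_refl _) (mul_mem_fil (m := m + 1) (l := 0) (sub_mem ?_ ?_) (hup _))
    · exact mul_mem_fil ha hu
    · rw [Nat.add_comm m 1]; exact mul_mem_fil hu ha
  have key : ∀ j, Φ.unipotent hup (N - j) ≤ Subgroup.upperCentralSeries Γ j := by
    intro j
    induction j with
    | zero =>
      intro a ha
      rw [Subgroup.upperCentralSeries_zero, Subgroup.mem_bot]
      exact Φ.inj (by rw [map_one, ← sub_eq_zero]; exact eq_zero_of_fil le_rfl ha)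
    | succ j ih =>
      intro a ha
      rw [Subgroup.mem_upperCentralSeries_succ_iff]
      intro y
      obtain ⟨t, ht, u, hu, rfl⟩ := hdec y
      have h1 : a * (t * u) * a⁻¹ * (t * u)⁻¹ = ⁅a, u⁆ := by
        rw [commutatorElement_def, mul_inv_rev]
        calc a * (t * u) * a⁻¹ * (u⁻¹ * t⁻¹) = (a * t) * u * a⁻¹ * u⁻¹ * t⁻¹ := by group
          _ = t * (a * u * a⁻¹ * u⁻¹) * t⁻¹ := by rw [← hc t ht a]; group
          _ = a * u * a⁻¹ * u⁻¹ := by rw [hc t ht, mul_inv_cancel_right]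
      rw [commutatorElement_def, h1]
      exact ih (fil_mono (by omega) (hstep (N - (j + 1)) a ha u hu))
  refine eq_top_iff.2 fun x _ => ?_
  rw [Subgroup.mem_upperCentralSeries_succ_iff]
  intro y
  obtain ⟨t, ht, u, hu, rfl⟩ := hdec x
  have h1 : (t * u) * y * (t * u)⁻¹ * y⁻¹ = u * y * u⁻¹ * y⁻¹ := by
    rw [mul_inv_rev]
    calc t * u * y * (u⁻¹ * t⁻¹) * y⁻¹ = t * (u * y * u⁻¹) * t⁻¹ * y⁻¹ := by group
      _ = u * y * u⁻¹ * y⁻¹ := by rw [hc t ht, mul_inv_cancel_right]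
  rw [commutatorElement_def, h1]
  have hu' : u ∈ Subgroup.upperCentralSeries Γ N := by
    rcases Nat.eq_zero_or_pos N with h | h
    · subst h
      refine key 0 ?_
      exact fun i => i.elim0
    · exact Subgroup.upperCentralSeries_mono Γ (Nat.sub_le N 1)
        (key (N - 1) (fil_mono (by omega) hu))
  have hn : (Subgroup.upperCentralSeries Γ N).Normal := inferInstance
  rw [show u * y * u⁻¹ * y⁻¹ = u * (y * u⁻¹ * y⁻¹) by group]
  exact Subgroup.mul_mem _ hu' (hn.conj_mem _ (Subgroup.inv_mem _ hu') y)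

variable {Φ} in
/-- With a central torus covering the diagonal, every diagonalisable element lies in it. -/
theorem Rep.IsToral.mem_of_diag [IsAlgClosed k] {T : Subgroup Γ} (hT : Φ.IsToral T)
    (hup : ∀ x, Φ.ρ x ∈ fil k N 0) (hc : ∀ t ∈ T, ∀ x, t * x = x * t)
    (hcov : ∀ x, ∃ t ∈ T, Φ.diagHom hup t = Φ.diagHom hup x) {x : Γ} {P Q : Matrix (Fin N) (Fin N) k}
    (hQP : Q * P = 1) (hx : (P * Φ.ρ x * Q).IsDiag) : x ∈ T := by
  obtain ⟨t, ht, he⟩ := hcov x
  obtain ⟨P₁, Q₁, h₁, hd⟩ := hT.diag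
  have hu : t⁻¹ * x ∈ Φ.unipotent hup 1 :=
    Φ.mem_unipotent_of_diag (by rw [map_mul, ← he, ← map_mul, inv_mul_cancel, map_one])
  obtain ⟨P₂, Q₂, h₂, hd₂⟩ := exists_diagonalize ({Φ.ρ t⁻¹, Φ.ρ x} : Set (Matrix (Fin N) (Fin N) k))
    (by
      rintro A (rfl | rfl) B (rfl | rfl) <;>
        first
        | rfl
        | rw [← map_mul, ← map_mul, hc _ (T.inv_mem ht) x])
    (by
      rintro A (rfl | rfl)
      · exact exists_squarefree_of_isDiag h₁ (hd _ (T.inv_mem ht))
      · exact exists_squarefree_of_isDiag hQP hx)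
  have hnil : (Φ.ρ (t⁻¹ * x) - 1) ^ N = 0 :=
    eq_zero_of_fil (by omega) (pow_mem_fil (Φ.mem_unipotent.1 hu) N)
  have hdu : (P₂ * (Φ.ρ (t⁻¹ * x) - 1) * Q₂).IsDiag := by
    rw [map_mul, mul_sub, sub_mul, mul_one, mul_eq_one_comm.mp h₂]
    refine Matrix.IsDiag.sub ?_ Matrix.isDiag_one
    have e : P₂ * (Φ.ρ t⁻¹ * Φ.ρ x) * Q₂ = (P₂ * Φ.ρ t⁻¹ * Q₂) * (P₂ * Φ.ρ x * Q₂) := by
      simp only [mul_assoc]
      rw [← mul_assoc Q₂ P₂, h₂, one_mul]
    rw [e, ← (hd₂ _ (Set.mem_insert _ _)).diagonal_diag,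
      ← (hd₂ _ (Set.mem_insert_of_mem _ rfl)).diagonal_diag, Matrix.diagonal_mul_diagonal]
    exact Matrix.isDiag_diagonal _
  have hpow : (P₂ * (Φ.ρ (t⁻¹ * x) - 1) * Q₂) ^ N = 0 := by
    have : ∀ (M : Matrix (Fin N) (Fin N) k) (j : ℕ), (P₂ * M * Q₂) ^ j = P₂ * M ^ j * Q₂ := by
      intro M j
      induction j with
      | zero => simp [mul_eq_one_comm.mp h₂]
      | succ j ih =>
        rw [pow_succ, ih, pow_succ]
        simp only [mul_assoc]
        rw [← mul_assoc Q₂ P₂, h₂, one_mul]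
    rw [this, hnil, mul_zero, zero_mul]
  rw [← hdu.diagonal_diag, Matrix.diagonal_pow, Matrix.diagonal_eq_zero] at hpow
  have hzero : P₂ * (Φ.ρ (t⁻¹ * x) - 1) * Q₂ = 0 := by
    rw [← hdu.diagonal_diag, Matrix.diagonal_eq_zero]
    funext i
    exact eq_zero_of_pow_eq_zero (congrFun hpow i)
  have : Φ.ρ (t⁻¹ * x) - 1 = 0 := by
    have h3 := congrArg (fun M => Q₂ * M * P₂) hzero
    simp only [mul_zero, zero_mul, ← mul_assoc, h₂, one_mul] at h3
    simpa only [mul_assoc, h₂, mul_one] using h3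
  rw [sub_eq_zero, ← map_one Φ.ρ] at this
  rw [inv_mul_eq_one.1 (Φ.inj this)] at ht
  exact ht

end Groth.Agent.Borel50.Lin
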