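import Groth.Agent.Borel50.Lin.Basic

/-!
# Unipotent elements in triangular linear groups: roots and a cohomological conjugacy lemma
-/

set_option autoImplicit false
universe u v

open Matrix

noncomputable section

namespace Groth.Agent.Borel50.Lin

variable {k : Type u} [Field k] {N : ℕ}

/-- Matrices vanishing below the `m`-th superdiagonal. -/
def fil (k : Type u) [Field k] (N m : ℕ) : Submodule k (Matrix (Fin N) (Fin N) k) where
  carrier := {M | ∀ i j : Fin N, (j : ℕ) < i + m → M i j = 0}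
  zero_mem' := fun i j _ => rfl
  add_mem' := fun {a b} ha hb i j h => by simp [ha i j h, hb i j h]
  smul_mem' := fun c a ha i j h => by simp [ha i j h]

lemma fil_mono {m l : ℕ} (h : l ≤ m) : fil k N m ≤ fil k N l := fun _ hM i j hij => hM i j (by omega)

lemma mul_mem_fil {m l : ℕ} {A B : Matrix (Fin N) (Fin N) k} (hA : A ∈ fil k N m) (hB : B ∈ fil k N l) :
    A * B ∈ fil k N (m + l) := fun i j h => by
  rw [Matrix.mul_apply]
  refine Finset.sum_eq_zero fun q _ => ?_
  by_cases hq : (q : ℕ) < i + m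
  · rw [hA i q hq, zero_mul]
  · rw [hB q j (by omega), mul_zero]

lemma one_mem_fil : (1 : Matrix (Fin N) (Fin N) k) ∈ fil k N 0 := fun i j h =>
  Matrix.one_apply_ne fun e => by subst e; omega

lemma eq_zero_of_fil {M : Matrix (Fin N) (Fin N) k} {m : ℕ} (hm : N ≤ m) (hM : M ∈ fil k N m) : M = 0 :=
  Matrix.ext fun i j => hM i j (by have := j.2; omega)

lemma pow_mem_fil {m : ℕ} {A : Matrix (Fin N) (Fin N) k} (hA : A ∈ fil k N m) : ∀ j, A ^ j ∈ fil k N (j * m)
  | 0 => by simpa using one_mem_fil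
  | j + 1 => by rw [pow_succ, Nat.succ_mul]; exact mul_mem_fil (pow_mem_fil hA j) hA

variable {Γ : Type v} [Group Γ] [TopologicalSpace Γ] (Φ : Rep k Γ N)

/-- The elements congruent to one modulo the `m`-th step of the filtration, in a triangular group. -/
def Rep.unipotent (hup : ∀ x, Φ.ρ x ∈ fil k N 0) (m : ℕ) : Subgroup Γ where
  carrier := {x | Φ.ρ x - 1 ∈ fil k N m}
  one_mem' := by show Φ.ρ 1 - 1 ∈ fil k N m; rw [map_one, sub_self]; exact zero_mem _
  mul_mem' := fun {a b} ha hb => by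
    show Φ.ρ (a * b) - 1 ∈ fil k N m
    have e : Φ.ρ (a * b) - 1 = (Φ.ρ a - 1) * Φ.ρ b + (Φ.ρ b - 1) := by rw [map_mul]; noncomm_ring
    rw [e]
    exact add_mem (fil_mono (by omega) (mul_mem_fil ha (hup b))) hb
  inv_mem' := fun {a} ha => by
    show Φ.ρ a⁻¹ - 1 ∈ fil k N m
    have e : Φ.ρ a⁻¹ - 1 = -(Φ.ρ a⁻¹ * (Φ.ρ a - 1)) := by
      rw [mul_sub, ← map_mul, inv_mul_cancel, map_one, mul_one]; abel
    rw [e]
    exact neg_mem (fil_mono (by omega) (mul_mem_fil (hup a⁻¹) ha))

lemma Rep.mem_unipotent {hup : ∀ x, Φ.ρ x ∈ fil k N 0} {m : ℕ} {x : Γ} :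
    x ∈ Φ.unipotent hup m ↔ Φ.ρ x - 1 ∈ fil k N m := Iff.rfl

lemma eval_eq_zero_of_nat [CharZero k] {q : Polynomial k} (h : ∀ m : ℕ, q.eval (m : k) = 0) (t : k) :
    q.eval t = 0 := by
  have : q = 0 := Polynomial.eq_zero_of_infinite_isRoot q
    ((Set.infinite_range_of_injective Nat.cast_injective).mono (by rintro _ ⟨m, rfl⟩; exact h m))
  rw [this, Polynomial.eval_zero]

/-- Roots of unipotent elements. -/
theorem exists_root (hup : ∀ x, Φ.ρ x ∈ fil k N 0) {m n : ℕ} (hm : 1 ≤ m) (hn : (n : k) ≠ 0) {u : Γ}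
    (hu : u ∈ Φ.unipotent hup m) : ∃ r ∈ Φ.unipotent hup m, r ^ n = u := by
  have hX : (Φ.ρ u - 1) ^ N = 0 :=
    eq_zero_of_fil (by nlinarith) (pow_mem_fil (Φ.mem_unipotent.1 hu) N)
  rcases CharP.exists' k with hk | ⟨p, hp, hkp⟩
  · -- characteristic zero: the binomial series
    let X := Φ.ρ u - 1
    let c : ℕ → Polynomial k := fun j => Polynomial.C ((j.factorial : k)⁻¹) * descPochhammer k j
    let P : Matrix (Fin N) (Fin N) (Polynomial k) := ∑ j ∈ Finset.range N, c j • (X ^ j).map Polynomial.C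
    let at' : k → Matrix (Fin N) (Fin N) k := fun t => (Polynomial.evalRingHom t).mapMatrix P
    have hat : ∀ t, at' t = ∑ j ∈ Finset.range N, (c j).eval t • X ^ j := fun t => by
      ext a b
      simp [at', P, Matrix.sum_apply, Polynomial.eval_finsetSum]
    have hnat : ∀ i : ℕ, at' (i : k) = Φ.ρ (u ^ i) := fun i => by
      rw [hat, map_pow, show Φ.ρ u = X + 1 from (sub_add_cancel _ _).symm, (Commute.one_right X).add_pow]
      simp only [one_pow, mul_one]
      have hc : ∀ j, (c j).eval (i : k) = (i.choose j : k) := fun j => by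
        have hj : (j.factorial : k) ≠ 0 := by exact_mod_cast j.factorial_ne_zero
        simp only [c, Polynomial.eval_mul, Polynomial.eval_C, descPochhammer_eval_eq_descFactorial,
          Nat.descFactorial_eq_factorial_mul_choose, Nat.cast_mul]
        field_simp
      simp only [hc]
      have hX' : ∀ j, N ≤ j → X ^ j = 0 := fun j hj => by
        rw [← Nat.add_sub_cancel' hj, pow_add, hX, zero_mul]
      have h1 : ∀ j, (i.choose j : k) • X ^ j = X ^ j * (i.choose j : Matrix (Fin N) (Fin N) k) := fun j => by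
        rw [← nsmul_eq_mul', Nat.cast_smul_eq_nsmul]
      simp only [h1]
      calc _ = ∑ j ∈ Finset.range (max N (i + 1)), X ^ j * (i.choose j : Matrix (Fin N) (Fin N) k) :=
            Finset.sum_subset (by simp) fun j _ hj => by
              rw [hX' j (by simpa using hj), zero_mul]
        _ = _ := (Finset.sum_subset (by simp) fun j _ hj => by
              rw [Nat.choose_eq_zero_of_lt (by simpa using hj)]; simp).symm
    obtain ⟨r, -, hr⟩ := (Φ.spec (Set.range fun i : ℕ => u ^ i) (at' (n : k)⁻¹)).1 fun f hf => by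
      let q : Polynomial k := MvPolynomial.eval₂ Polynomial.C (fun p => P p.1 p.2) f
      have hq : ∀ t, q.eval t = ev f (at' t) := fun t => by
        show Polynomial.evalRingHom t (MvPolynomial.eval₂ _ _ f) = _
        rw [MvPolynomial.eval₂_comp_left]
        have e : (Polynomial.evalRingHom t).comp Polynomial.C = RingHom.id k := RingHom.ext fun a => by simp
        rw [e]
        rfl
      rw [← hq]
      exact eval_eq_zero_of_nat (fun i => by rw [hq, hnat]; exact hf _ ⟨i, rfl⟩) _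
    refine ⟨r, ?_, Φ.inj ?_⟩
    · show Φ.ρ r - 1 ∈ fil k N m
      rw [hr, hat]
      rcases Nat.eq_zero_or_pos N with hN | hN
      · subst hN; exact fun a => a.elim0
      rw [show Finset.range N = insert 0 ((Finset.range N).erase 0) from
        (Finset.insert_erase (Finset.mem_range.2 hN)).symm, Finset.sum_insert (Finset.notMem_erase _ _)]
      have h0 : (c 0).eval ((n : k)⁻¹) • X ^ 0 = (1 : Matrix (Fin N) (Fin N) k) := by simp [c]
      rw [h0, add_sub_cancel_left]
      refine Submodule.sum_mem _ fun j hj => Submodule.smul_mem _ _ ?_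
      have hj0 : j ≠ 0 := (Finset.mem_erase.1 hj).1
      exact fil_mono (Nat.le_mul_of_pos_left m (Nat.pos_of_ne_zero hj0)) (pow_mem_fil hu j)
    · rw [map_pow, hr]
      refine Matrix.ext fun a b => ?_
      let q : Polynomial k := (P ^ n) a b - ((P a b).comp (Polynomial.C (n : k) * Polynomial.X))
      have hq : ∀ t, q.eval t = (at' t ^ n) a b - at' ((n : k) * t) a b := fun t => by
        simp only [q, Polynomial.eval_sub, Polynomial.eval_comp, Polynomial.eval_mul, Polynomial.eval_C,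
          Polynomial.eval_X, at', ← map_pow]
        rfl
      have h0 : q.eval (n : k)⁻¹ = 0 := eval_eq_zero_of_nat (fun i => by
        rw [hq, hnat, show ((n : k) * (i : k)) = ((n * i : ℕ) : k) by push_cast; ring, hnat, ← map_pow,
          ← pow_mul, Nat.mul_comm, sub_self]) _
      rw [hq, mul_inv_cancel₀ hn, sub_eq_zero] at h0
      rw [h0, show (1 : k) = ((1 : ℕ) : k) by simp, hnat, pow_one]
  · -- characteristic `p`
    have := hp
    rcases Nat.eq_zero_or_pos N with hN | hN
    · exact ⟨1, Subgroup.one_mem _, Φ.inj (Matrix.ext fun a => by subst hN; exact a.elim0)⟩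
    have : Nonempty (Fin N) := ⟨⟨0, hN⟩⟩
    have hu1 : u ^ p ^ N = 1 := Φ.inj (by
      rw [map_pow, map_one, ← sub_eq_zero]
      have e := sub_pow_char_pow_of_commute p N (Commute.one_right (Φ.ρ u))
      rw [one_pow] at e
      rw [← e]
      obtain ⟨d, hd⟩ := Nat.exists_eq_add_of_le (Nat.lt_pow_self hp.out.one_lt (n := N)).le
      rw [hd, pow_add, hX, zero_mul])
    have hcop : n.Coprime (p ^ N) := by
      refine Nat.Coprime.pow_right N ((Nat.Prime.coprime_iff_not_dvd hp.out).2 fun hdvd => hn ?_).symm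
      exact (CharP.cast_eq_zero_iff k p n).2 hdvd
    obtain ⟨l, -, hl⟩ := Nat.exists_mul_mod_eq_one_of_coprime hcop (Nat.one_lt_pow hN.ne' hp.out.one_lt)
    refine ⟨u ^ l, Subgroup.pow_mem _ hu _, ?_⟩
    rw [← pow_mul, Nat.mul_comm, ← Nat.mod_add_div (n * l) (p ^ N), hl, pow_add, pow_one, pow_mul, hu1, one_pow,
      mul_one]

/-- Elements of order prime to the characteristic with the same diagonal are conjugate by a unipotent. -/
theorem exists_conj (hup : ∀ x, Φ.ρ x ∈ fil k N 0) {n : ℕ} (hn : (n : k) ≠ 0) :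
    ∀ {s y : Γ}, s ^ n = 1 → y ^ n = 1 → s⁻¹ * y ∈ Φ.unipotent hup 1 →
      ∃ v ∈ Φ.unipotent hup 1, v * s * v⁻¹ = y := by
  suffices key : ∀ d m, N ≤ m + d → 1 ≤ m → ∀ {s y : Γ}, s ^ n = 1 → y ^ n = 1 → s⁻¹ * y ∈ Φ.unipotent hup m →
      ∃ v ∈ Φ.unipotent hup 1, v * s * v⁻¹ = y from
    fun {s y} hs hy h => key N 1 (by omega) le_rfl hs hy h
  intro d
  induction d with
  | zero =>
    intro m hd _ s y _ _ h
    refine ⟨1, Subgroup.one_mem _, ?_⟩
    have e : s⁻¹ * y = 1 := Φ.inj (by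
      rw [map_one, ← sub_eq_zero]; exact eq_zero_of_fil (by omega) h)
    simp [inv_mul_eq_one.1 e]
  | succ d ih =>
    intro m hd hm s y hs hy h
    obtain ⟨r, hr, hru⟩ := exists_root Φ hup hm hn h
    let Q := Matrix (Fin N) (Fin N) k ⧸ fil k N (m + 1)
    let q : Matrix (Fin N) (Fin N) k →ₗ[k] Q := (fil k N (m + 1)).mkQ
    let ψ : Γ → Q := fun x => q (Φ.ρ x - 1)
    have hψ1 : ψ 1 = 0 := by simp [ψ]
    have hψ : ∀ a ∈ Φ.unipotent hup m, ∀ b ∈ Φ.unipotent hup m, ψ (a * b) = ψ a + ψ b := fun a ha b hb => by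
      have e : Φ.ρ (a * b) - 1 - ((Φ.ρ a - 1) + (Φ.ρ b - 1)) = (Φ.ρ a - 1) * (Φ.ρ b - 1) := by
        rw [map_mul]; noncomm_ring
      show q _ = q _ + q _
      rw [← map_add]
      refine (Submodule.Quotient.eq _).2 ?_
      rw [e]
      exact fil_mono (by omega) (mul_mem_fil ha hb)
    have hconj : ∀ g : Γ, ∀ a ∈ Φ.unipotent hup m, g⁻¹ * a * g ∈ Φ.unipotent hup m := fun g a ha => by
      show Φ.ρ (g⁻¹ * a * g) - 1 ∈ fil k N m
      have e : Φ.ρ (g⁻¹ * a * g) - 1 = Φ.ρ g⁻¹ * (Φ.ρ a - 1) * Φ.ρ g := by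
        rw [map_mul, map_mul, mul_sub, mul_one, sub_mul, ← map_mul (f := Φ.ρ) g⁻¹ g, inv_mul_cancel, map_one]
      rw [e]
      exact fil_mono (by omega) (mul_mem_fil (mul_mem_fil (hup _) ha) (hup g))
    let φ : ℕ → Γ → Γ := fun j a => (s ^ j)⁻¹ * a * s ^ j
    have hφm : ∀ j, ∀ a ∈ Φ.unipotent hup m, φ j a ∈ Φ.unipotent hup m := fun j a ha => hconj _ a ha
    -- the additive map induced by conjugation
    let Lm : Matrix (Fin N) (Fin N) k →ₗ[k] Matrix (Fin N) (Fin N) k :=
      (LinearMap.mulLeft k (Φ.ρ s⁻¹)).comp (LinearMap.mulRight k (Φ.ρ s))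
    let L : Q →ₗ[k] Q := Submodule.mapQ _ _ Lm fun M hM => by
      show Φ.ρ s⁻¹ * (M * Φ.ρ s) ∈ fil k N (m + 1)
      exact fil_mono (by omega) (mul_mem_fil (hup s⁻¹) (mul_mem_fil hM (hup s)))
    have hL : ∀ a, ψ (s⁻¹ * a * s) = L (ψ a) := fun a => by
      show q _ = q _
      congr 1
      show _ = Φ.ρ s⁻¹ * ((Φ.ρ a - 1) * Φ.ρ s)
      rw [map_mul, map_mul, sub_mul, one_mul, mul_sub, ← map_mul (f := Φ.ρ) s⁻¹ s, inv_mul_cancel, map_one,
        mul_assoc]
    have hLpow : ∀ j, ψ (φ j r) = (L ^ j) (ψ r) := by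
      intro j
      induction j with
      | zero => simp [φ]
      | succ j ih =>
        rw [pow_succ', Module.End.mul_apply, ← ih, ← hL]
        congr 1
        simp only [φ, pow_succ]
        group
    have hpow : ∀ a ∈ Φ.unipotent hup m, ∀ j : ℕ, ψ (a ^ j) = (j : k) • ψ a := fun a ha j => by
      induction j with
      | zero => simp [hψ1]
      | succ j ih =>
        rw [pow_succ, hψ _ (Subgroup.pow_mem _ ha j) _ ha, ih, Nat.cast_succ, add_smul, one_smul]
    let u := s⁻¹ * y
    have hu : u ∈ Φ.unipotent hup m := h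
    have hψu : ψ u = (n : k) • ψ r := by
      show ψ (s⁻¹ * y) = _
      rw [← hru, hpow r hr]
    -- the norm relation
    have hnorm : ∑ j ∈ Finset.range n, (L ^ j) (ψ r) = 0 := by
      have key : ∀ i : ℕ, ∃ w ∈ Φ.unipotent hup m, (s * u) ^ i = s ^ i * w ∧
          ψ w = (n : k) • ∑ j ∈ Finset.range i, (L ^ j) (ψ r) := by
        intro i
        induction i with
        | zero => exact ⟨1, Subgroup.one_mem _, by simp, by simp [hψ1]⟩
        | succ i ih =>
          obtain ⟨w, hw, e, hψw⟩ := ih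
          refine ⟨s⁻¹ * w * s * u, Subgroup.mul_mem _ (hconj s w hw) hu, ?_, ?_⟩
          · rw [pow_succ, e, pow_succ]; group
          · rw [hψ _ (hconj s w hw) _ hu, hL, hψw, hψu, map_smul, map_sum, ← smul_add, Finset.sum_range_succ']
            simp [pow_succ']
      obtain ⟨w, -, e, hψw⟩ := key n
      rw [show s * u = y from mul_inv_cancel_left s y, hy, hs, one_mul] at e
      rw [← e, hψ1, eq_comm, smul_eq_zero] at hψw
      exact hψw.resolve_left hn
    -- the conjugating element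
    have hv : ∀ i : ℕ, ∃ v ∈ Φ.unipotent hup m, ψ v = ∑ j ∈ Finset.range i, (j : k) • (L ^ j) (ψ r) := by
      intro i
      induction i with
      | zero => exact ⟨1, Subgroup.one_mem _, by simp [hψ1]⟩
      | succ i ih =>
        obtain ⟨v, hv, hψv⟩ := ih
        refine ⟨v * φ i r ^ i, Subgroup.mul_mem _ hv (Subgroup.pow_mem _ (hφm i r hr) _), ?_⟩
        rw [hψ _ hv _ (Subgroup.pow_mem _ (hφm i r hr) _), hψv, hpow _ (hφm i r hr), hLpow, Finset.sum_range_succ]
    obtain ⟨v, hv, hψv⟩ := hv n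
    have hLv : L (ψ v) - ψ v = (n : k) • ψ r := by
      have hn0 : (L ^ n) (ψ r) = ψ r := by
        rw [← hLpow]; simp [φ, hs]
      have h2 : ∑ j ∈ Finset.range n, ((j : k) + 1) • (L ^ (j + 1)) (ψ r) =
          ∑ j ∈ Finset.range n, (j : k) • (L ^ j) (ψ r) + (n : k) • (L ^ n) (ψ r) := by
        have e := (Finset.sum_range_succ' (fun j => (j : k) • (L ^ j) (ψ r)) n).symm.trans
          (Finset.sum_range_succ (fun j => (j : k) • (L ^ j) (ψ r)) n)
        simpa using e
      simp only [add_smul, one_smul, Finset.sum_add_distrib] at h2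
      have h3 : ∑ j ∈ Finset.range n, (L ^ (j + 1)) (ψ r) = 0 := by
        simp only [pow_succ', Module.End.mul_apply, ← map_sum, hnorm, map_zero]
      rw [h3, add_zero, hn0] at h2
      rw [hψv, map_sum, sub_eq_iff_eq_add']
      simpa only [map_smul, ← Module.End.mul_apply, ← pow_succ'] using h2
    have hs' : (v * s * v⁻¹) ^ n = 1 := by rw [conj_pow, hs]; simp
    have hstep : (v * s * v⁻¹)⁻¹ * y ∈ Φ.unipotent hup (m + 1) := by
      have e : (v * s * v⁻¹)⁻¹ * y = v * (s⁻¹ * v⁻¹ * s) * u := by simp only [u]; group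
      rw [e]
      show _ ∈ fil k N (m + 1)
      rw [← Submodule.Quotient.mk_eq_zero]
      show ψ _ = 0
      have hvi : ψ v⁻¹ = -ψ v := by
        have := hψ v hv v⁻¹ (Subgroup.inv_mem _ hv)
        rw [mul_inv_cancel, hψ1] at this
        exact eq_neg_of_add_eq_zero_right this.symm
      rw [hψ _ (Subgroup.mul_mem _ hv (hconj s _ (Subgroup.inv_mem _ hv))) _ hu,
        hψ _ hv _ (hconj s _ (Subgroup.inv_mem _ hv)), hL, hvi, map_neg, hψu, ← hLv]
      abel
    obtain ⟨v', hv', e⟩ := ih (m + 1) (by omega) (by omega) hs' hy hstep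
    exact ⟨v' * v, Subgroup.mul_mem _ hv' (fil_mono hm hv), by rw [← e]; group⟩

end Groth.Agent.Borel50.Lin
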