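import Groth.Agent.Borel50.Lin.Stab
import Groth.Agent.Borel50.Lin.Torus

/-!
# A character of the group with prescribed restriction to a central torus
-/

set_option autoImplicit false
universe u v

noncomputable section

namespace Groth.Agent.Borel50.Lin

open scoped Matrix

variable {k : Type u} [Field k] {N d : ℕ}

/-- An injective matrix has an invertible maximal minor. -/
lemma exists_minor (J : Matrix (Fin N) (Fin d) k) (L : Matrix (Fin d) (Fin N) k) (h : L * J = 1) :
    ∃ σ : Fin d → Fin N, (J.submatrix σ id).det ≠ 0 := by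
  classical
  have hspan : Submodule.span k (Set.range J.row) = ⊤ := by
    rw [← range_vecMulLinear, LinearMap.range_eq_top]
    exact fun x => ⟨x ᵥ* L, by simp [Matrix.vecMul_vecMul, h]⟩
  obtain ⟨b, hb, hbs, hbl⟩ := exists_linearIndependent k (Set.range J.row)
  rw [hspan] at hbs
  let B := Module.Basis.mk hbl (by rw [Subtype.range_coe, hbs])
  let e : Fin d ≃ b := (Pi.basisFun k (Fin d)).indexEquiv B
  choose σ hσ using fun p => hb (e p).2
  refine ⟨σ, fun h0 => ?_⟩
  have hli : LinearIndependent k (J.submatrix σ id).row := by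
    have : (J.submatrix σ id).row = fun p => ((e p : b) : Fin d → k) := funext fun p => by
      rw [← hσ p]; rfl
    rw [this]
    exact hbl.comp e e.injective
  exact (Matrix.isUnit_iff_isUnit_det _).1 (Matrix.linearIndependent_rows_iff_isUnit.1 hli) |>.ne_zero h0

section Block

variable (s : Fin N → Prop) [DecidablePred s]

/-- The diagonal block on a set of indices. -/
abbrev blk {R : Type*} (M : Matrix (Fin N) (Fin N) R) : Matrix {i // s i} {i // s i} R := M.submatrix (↑) (↑)

variable {s}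

lemma blk_mul {M M' : Matrix (Fin N) (Fin N) k} (hM : ∀ i j, s i → ¬ s j → M i j = 0) :
    blk s (M * M') = blk s M * blk s M' := by
  ext ⟨i, hi⟩ ⟨j, hj⟩
  simp only [Matrix.submatrix_apply, Matrix.mul_apply]
  rw [← Fintype.sum_subtype_add_sum_subtype s (fun l => M i l * M' l j),
    Finset.sum_eq_zero (f := fun l : {x // ¬ s x} => M i l * M' l j) (fun l _ => by rw [hM i l hi l.2, zero_mul]),
    add_zero]

omit [DecidablePred s] in
lemma blk_one : blk s (1 : Matrix (Fin N) (Fin N) k) = 1 :=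
  Matrix.submatrix_one _ Subtype.val_injective

lemma blk_det_one_add {X : Matrix (Fin N) (Fin N) k} (hX : IsNilpotent X)
    (h : ∀ i j, s i → ¬ s j → X i j = 0) : (blk s (1 + X)).det = 1 := by
  have hp : ∀ n, blk s (X ^ n) = blk s X ^ n := by
    intro n
    induction n with
    | zero => rw [pow_zero, pow_zero, blk_one]
    | succ n ih => rw [pow_succ', pow_succ', blk_mul h, ih]
  obtain ⟨n, hn⟩ := hX
  rw [show blk s (1 + X) = blk s (1 : Matrix (Fin N) (Fin N) k) + blk s X from rfl, blk_one]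
  refine Stab.det_one_add_nilpotent _ ⟨n, ?_⟩
  rw [← hp, hn]
  rfl

end Block

variable {Γ : Type v} [Group Γ] [TopologicalSpace Γ] {Φ : Rep k Γ N}

open MvPolynomial in
/-- A character of a group extending, up to a power, the determinant on a subspace of a central torus. -/
theorem Rep.IsToral.exists_char {S : Subgroup Γ} (hS : Φ.IsToral S) (hc : ∀ g : Γ, ∀ s ∈ S, g * s = s * g)
    (J : Matrix (Fin N) (Fin d) k) (L : Matrix (Fin d) (Fin N) k) (hLJ : L * J = 1) :
    ∃ (M : ℕ) (δ : MvPolynomial (Fin N × Fin N) k), 0 < M ∧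
      (∀ g h : Γ, ev δ (Φ.ρ (g * h)) = ev δ (Φ.ρ g) * ev δ (Φ.ρ h)) ∧ ev δ (Φ.ρ 1) = 1 ∧
      (∀ u : Γ, IsNilpotent (Φ.ρ u - 1) → ev δ (Φ.ρ u) = 1) ∧
      ∀ s ∈ S, Φ.ρ s * J = J * (L * Φ.ρ s * J) → ev δ (Φ.ρ s) = (L * Φ.ρ s * J).det ^ M := by
  classical
  obtain ⟨P, Q, hQP, hd⟩ := hS.diag
  have hPQ : P * Q = 1 := mul_eq_one_comm.mp hQP
  let cl : Fin N → Fin N → Prop := fun i l => ∀ s ∈ S, (P * Φ.ρ s * Q) i i = (P * Φ.ρ s * Q) l l
  -- vanishing between different weights
  have hzero : ∀ (g : Γ) (i₀ i j : Fin N), cl i₀ i → ¬ cl i₀ j → (P * Φ.ρ g * Q) i j = 0 := by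
    intro g i₀ i j hi hj
    simp only [cl, not_forall] at hj
    obtain ⟨s, hs, hne⟩ := hj
    obtain ⟨a, ha⟩ : ∃ a, P * Φ.ρ s * Q = Matrix.diagonal a := ⟨_, (Matrix.IsDiag.diagonal_diag (hd s hs)).symm⟩
    have e : (P * Φ.ρ g * Q) * (P * Φ.ρ s * Q) = (P * Φ.ρ s * Q) * (P * Φ.ρ g * Q) := by
      simp only [_root_.mul_assoc]
      rw [← _root_.mul_assoc Q P, hQP, _root_.one_mul, ← _root_.mul_assoc (Φ.ρ g), ← map_mul, hc g s hs,
        map_mul, _root_.mul_assoc (Φ.ρ s), ← _root_.mul_assoc Q P, hQP, _root_.one_mul]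
    have h1 := congrArg (fun X => X i j) e
    rw [ha] at h1
    simp only [Matrix.mul_diagonal, Matrix.diagonal_mul] at h1
    have h2 := hi s hs
    rw [ha] at h2 hne
    simp only [Matrix.diagonal_apply_eq] at h2 hne
    have h3 : a i ≠ a j := fun h => hne (h2.trans h)
    by_contra h0
    rw [_root_.mul_comm] at h1
    exact h3 (mul_right_cancel₀ h0 h1.symm)
  -- block determinants
  let Xm : Matrix (Fin N) (Fin N) (MvPolynomial (Fin N × Fin N) k) := Matrix.of fun i j => X (i, j)
  let b : Fin N → MvPolynomial (Fin N × Fin N) k := fun i =>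
    (blk (cl i) (P.map C * Xm * Q.map C)).det
  have hb : ∀ i M, ev (b i) M = (blk (cl i) (P * M * Q)).det := fun i M => by
    show MvPolynomial.eval (fun p : Fin N × Fin N => M p.1 p.2) (Matrix.det _) = _
    rw [RingHom.map_det]
    congr 1
    ext p q
    simp only [RingHom.mapMatrix_apply, Matrix.map_apply, Matrix.submatrix_apply]
    simp [Matrix.mul_apply, Xm]
  have hbmul : ∀ i (g h : Γ), ev (b i) (Φ.ρ (g * h)) = ev (b i) (Φ.ρ g) * ev (b i) (Φ.ρ h) := fun i g h => by
    rw [hb, hb, hb, ← Matrix.det_mul, ← blk_mul (hzero g i)]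
    congr 2
    simp only [_root_.mul_assoc]
    rw [← _root_.mul_assoc Q P, hQP, _root_.one_mul, map_mul, _root_.mul_assoc]
  have hb1 : ∀ i, ev (b i) (Φ.ρ 1) = 1 := fun i => by
    rw [hb, map_one, _root_.mul_one, hPQ, blk_one, Matrix.det_one]
  obtain ⟨σ, hσ⟩ := exists_minor (P * J) (L * Q) (by
    rw [Matrix.mul_assoc, ← Matrix.mul_assoc Q, hQP, Matrix.one_mul, hLJ])
  let n : Fin N → ℕ := fun i => Fintype.card {l // cl i l}
  have hn : ∀ i, 0 < n i := fun i => Fintype.card_pos_iff.2 ⟨⟨i, fun _ _ => rfl⟩⟩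
  have hdvd : ∀ i, n i ∣ N.factorial := fun i =>
    Nat.dvd_factorial (hn i) ((Fintype.card_subtype_le _).trans (Fintype.card_fin N).le)
  let δ : MvPolynomial (Fin N × Fin N) k := ∏ p, b (σ p) ^ (N.factorial / n (σ p))
  have hev : ∀ M, ev δ M = ∏ p, ev (b (σ p)) M ^ (N.factorial / n (σ p)) := fun M => by
    simp only [ev, δ, map_prod, map_pow]
  refine ⟨N.factorial, δ, Nat.factorial_pos _, fun g h => ?_, ?_, fun u hu => ?_, fun s hs hsJ => ?_⟩
  · simp only [hev, ← Finset.prod_mul_distrib, ← mul_pow, hbmul]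
  · simp only [hev, hb1, one_pow, Finset.prod_const_one]
  · rw [hev]
    refine Finset.prod_eq_one fun p _ => ?_
    have e : P * Φ.ρ u * Q = 1 + P * (Φ.ρ u - 1) * Q := by
      rw [mul_sub, sub_mul, _root_.mul_one, hPQ, add_sub_cancel]
    rw [hb, e, blk_det_one_add ?_ fun i j hi hj => ?_, one_pow]
    · obtain ⟨m, hm⟩ := hu
      refine ⟨m + 1, ?_⟩
      have : ∀ j : ℕ, (P * (Φ.ρ u - 1) * Q) ^ (j + 1) = P * (Φ.ρ u - 1) ^ (j + 1) * Q := fun j => by
        induction j with
        | zero => simp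
        | succ j ih =>
          rw [pow_succ, ih, pow_succ _ (j + 1)]
          simp only [_root_.mul_assoc]
          rw [← _root_.mul_assoc Q P, hQP, _root_.one_mul]
      rw [this, pow_succ, hm, zero_mul, mul_zero, zero_mul]
    · have hij : i ≠ j := fun h => hj (h ▸ hi)
      have h1 := hzero u _ i j hi hj
      rw [e, Matrix.add_apply, Matrix.one_apply_ne hij, zero_add] at h1
      exact h1
  · obtain ⟨a, ha⟩ : ∃ a, P * Φ.ρ s * Q = Matrix.diagonal a := ⟨_, (Matrix.IsDiag.diagonal_diag (hd s hs)).symm⟩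
    have hblk : ∀ i, ev (b i) (Φ.ρ s) = a i ^ n i := fun i => by
      rw [hb, ha, show blk (cl i) (Matrix.diagonal a) = Matrix.diagonal fun l : {l // cl i l} => a i by
        ext ⟨p, hp⟩ ⟨q, hq⟩
        have := hp s hs
        rw [ha, Matrix.diagonal_apply_eq, Matrix.diagonal_apply_eq] at this
        rcases eq_or_ne p q with rfl | hne
        · simp [this]
        · show Matrix.diagonal a p q = _
          rw [Matrix.diagonal_apply_ne _ hne,
            Matrix.diagonal_apply_ne _ (fun h => hne (congrArg Subtype.val h))],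
        Matrix.det_diagonal, Finset.prod_const, Finset.card_univ]
    have e1 : Matrix.diagonal a * (P * J) = (P * J) * (L * Φ.ρ s * J) := by
      rw [← ha, Matrix.mul_assoc P J, ← hsJ, Matrix.mul_assoc (P * Φ.ρ s), ← Matrix.mul_assoc Q, hQP,
        Matrix.one_mul, Matrix.mul_assoc]
    have e2 : Matrix.diagonal (fun p => a (σ p)) * (P * J).submatrix σ id =
        (P * J).submatrix σ id * (L * Φ.ρ s * J) := by
      ext p q
      have := congrFun (congrFun e1 (σ p)) q
      rw [Matrix.diagonal_mul] at this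
      rw [Matrix.diagonal_mul, Matrix.submatrix_apply, id, this]
      rfl
    have e3 := congrArg Matrix.det e2
    rw [Matrix.det_mul, Matrix.det_mul, Matrix.det_diagonal, _root_.mul_comm] at e3
    rw [← mul_left_cancel₀ hσ e3, ← Finset.prod_pow, hev]
    refine Finset.prod_congr rfl fun p _ => ?_
    rw [hblk, ← pow_mul, Nat.mul_div_cancel' (hdvd _)]

end Groth.Agent.Borel50.Lin
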